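import Groth.Agent.PerfBaseLib.Twist
import Groth.Agent.DerBCLib.Models
import Groth.Agent.CohCmpLib.Descent
import Groth.Agent.PerfDualLib.Dual
import Groth.Agent.KFlatLib.PerfectPull
import Groth.Agent.S0921
import Groth.Agent.CohBCLib.Global
import Groth.Agent.RichLib.ModFlatGlobal

/-!
# Direct images of flat modules along proper morphisms of finite presentation
-/

set_option autoImplicit false
set_option backward.isDefEq.respectTransparency false
set_option backward.isDefEq.respectTransparency.types false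
set_option maxHeartbeats 1000000
set_option linter.style.haveILetI false

universe u

open CategoryTheory CategoryTheory.Limits AlgebraicGeometry HomologicalComplex
open Groth.Agent

attribute [local instance] HasDerivedCategory.standard

namespace PerfBaseLib

variable {X S X' S' : Scheme.{u}}

theorem isKFlat_unitCx (X : Scheme.{u}) : DCoh.IsKFlat (Groth.Agent.PerfDualLib.unitCx X) :=
  KFlatLib.isKFlat_of_isStrictlyPerfect (Groth.Agent.PerfDualLib.isStrictlyPerfect_unitCx X)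

theorem isPerfect_unitCx (X : Scheme.{u}) :
    DCoh.IsPerfect (DCoh.toD X (Groth.Agent.PerfDualLib.unitCx X)) :=
  Groth.Agent.PerfDualLib.isPerfect_of_local fun _ =>
    ⟨⊤, trivial, Groth.Agent.PerfDualLib.isPerfect_restrict_unit _⟩

/-- `O ⊗ G ≅ G` as complexes. -/
noncomputable def twistUnitIso (G : X.Modules) :
    (KFlatLib.tensorModCx G).obj (Groth.Agent.PerfDualLib.unitCx X) ≅
      (CochainComplex.singleFunctor X.Modules 0).obj G :=
  (singleMapHomologicalComplex (DCoh.tensorRightMod G) (ComplexShape.up ℤ) 0).app _ ≪≫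
    (single X.Modules (ComplexShape.up ℤ) 0).mapIso
      (KFlatLib.tensSwap G (Coh.structureModule X) ≪≫ Groth.Agent.PerfDualLib.modUnitNat.app G)

/-- A module in degree zero as a twisted unit. -/
noncomputable def inDTwistIso (G : X.Modules) :
    DCoh.toD X ((KFlatLib.tensorModCx G).obj (Groth.Agent.PerfDualLib.unitCx X)) ≅ DCoh.inD X G :=
  DerivedCategory.Q.mapIso (twistUnitIso G) ≪≫
    ((DerivedCategory.singleFunctorIsoCompQ X.Modules 0).app G).symm

/-- Base change for a twist by a module flat over the base. -/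
theorem nonempty_baseChange_twist {f : X ⟶ S} {g : S' ⟶ S} {f' : X' ⟶ S'} {g' : X' ⟶ X}
    (H : IsPullback g' f' f g) [QuasiCompact f] [QuasiSeparated f] [DCoh.HasRpush f] [DCoh.HasLpull g]
    [DCoh.HasRpush f'] {T : CochainComplex X.Modules ℤ} (hT : DCoh.IsKFlat T) (hTq : DCoh.IsQCohD (DCoh.toD X T))
    (G : X.Modules) (hG : Coh.IsQCoh G) (hflat : FlatMod.IsFlatOver f G) :
    Nonempty ((DCoh.Lpull g).obj ((DCoh.Rpush f).obj (DCoh.toD X ((KFlatLib.tensorModCx G).obj T))) ≅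
      (DCoh.Rpush f').obj (DCoh.toD X' ((KFlatLib.tensorModCx ((Scheme.Modules.pullback g').obj G)).obj
        ((KFlatLib.pullCx g').obj T)))) := by
  haveI := hG
  let Z := (KFlatLib.tensorModCx G).obj T
  have hZq : DCoh.IsQCohD (DerivedCategory.Q.obj Z) := DerBCLib.isQCohD_tensorMod hT hTq G
  obtain ⟨M, q, hM, hq, hfl⟩ := DerBCLib.exists_injRes ((ProjFormLib.pullC g').obj Z)
  haveI := hM
  haveI := hq
  obtain ⟨d, -⟩ := DerBCLib.exists_terminal_data g' (DerBCLib.wi_of_isKInjective M) hfl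
    ((ProjFormLib.cxAdj g').homEquiv Z M q)
  haveI := DerBCLib.quasiIso_bMap H hZq (DerBCLib.hasLocModel_tensorMod hT hTq hG hflat) hfl d
  haveI := d.qis
  let L' := (ProjFormLib.pushC f).obj d.L
  let A := (KFlatLib.resP S).obj L'
  haveI : QuasiIso ((KFlatLib.resψ S).app L') := KFlatLib.quasiIso_resψ _
  obtain ⟨eR⟩ := DerBCLib.nonempty_rpush_wi (f := f) d.wi
  obtain ⟨eM⟩ := ProjFormLib.nonempty_push_iso (f := f') M
  exact ⟨(DCoh.Lpull g).mapIso
      ((DCoh.Rpush f).mapIso (asIso (DerivedCategory.Q.map d.j)) ≪≫ eR ≪≫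
        (asIso (DerivedCategory.Q.map ((KFlatLib.resψ S).app L'))).symm) ≪≫
    KFlatLib.lpullObjIso g A (KFlatLib.good_resP L').1 ≪≫
    asIso (DerivedCategory.Q.map (DerBCLib.bMap H.w d)) ≪≫
    eM.symm ≪≫
    (DCoh.Rpush f').mapIso ((asIso (DerivedCategory.Q.map q)).symm ≪≫
      DerivedCategory.Q.mapIso ((DerBCLib.pullTensCxIso g' G).app T))⟩

/-- The pulled back unit. -/
noncomputable def pullUnitIso (g' : X' ⟶ X) :
    (KFlatLib.pullCx g').obj (Groth.Agent.PerfDualLib.unitCx X) ≅ Groth.Agent.PerfDualLib.unitCx X' :=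
  (singleMapHomologicalComplex (Scheme.Modules.pullback g') (ComplexShape.up ℤ) 0).app _ ≪≫
    (single X'.Modules (ComplexShape.up ℤ) 0).mapIso (KFlatLib.pullUnitIso (f := g'))

/-- Base change for a module flat over the base. -/
theorem nonempty_baseChange_inD {f : X ⟶ S} {g : S' ⟶ S} {f' : X' ⟶ S'} {g' : X' ⟶ X}
    (H : IsPullback g' f' f g) [QuasiCompact f] [QuasiSeparated f] [DCoh.HasRpush f] [DCoh.HasLpull g]
    [DCoh.HasRpush f'] (G : X.Modules) (hG : Coh.IsQCoh G) (hflat : FlatMod.IsFlatOver f G) :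
    Nonempty ((DCoh.Lpull g).obj ((DCoh.Rpush f).obj (DCoh.inD X G)) ≅
      (DCoh.Rpush f').obj (DCoh.inD X' ((Scheme.Modules.pullback g').obj G))) := by
  obtain ⟨e⟩ := nonempty_baseChange_twist H (isKFlat_unitCx X)
    (KFlatLib.isQCohD_iso ((DerivedCategory.singleFunctorIsoCompQ X.Modules 0).app _)
      (isQCohD_inD _ QCohLib.isQCoh_unit)) G hG hflat
  exact ⟨(DCoh.Lpull g).mapIso ((DCoh.Rpush f).mapIso (inDTwistIso G).symm) ≪≫ e ≪≫
    (DCoh.Rpush f').mapIso (DerivedCategory.Q.mapIso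
      ((KFlatLib.tensorModCx _).mapIso (pullUnitIso g')) ≪≫ inDTwistIso _)⟩

/-- Over a Noetherian base. -/
theorem isPerfect_rpush_inD_noetherian [IsNoetherian S] (f : X ⟶ S) [LocallyOfFiniteType f]
    [DCoh.HasRpush f] (G : X.Modules) (hG : Coh.IsCoh G) (hflat : FlatMod.IsFlatOver f G)
    (hsupp : ClSub.IsProperOver f (CohB1.support G)) :
    DCoh.IsPerfect ((DCoh.Rpush f).obj (DCoh.inD X G)) :=
  Groth.Agent.PerfLib.isPerfect_of_iso ((DCoh.Rpush f).mapIso (inDTwistIso G))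
    (isPerfect_rpush_tensorMod f G _ (isKFlat_unitCx X) (isPerfect_unitCx X) hG hflat hsupp)

/-- Over an affine base. -/
theorem isPerfect_rpush_inD_affine {A : Type u} [CommRing A] (f : X ⟶ Spec (CommRingCat.of A))
    [IsProper f] [LocallyOfFinitePresentation f] [DCoh.HasRpush f] (F : X.Modules) [Coh.IsQCoh F]
    (hF : CohB1.IsFP F) (hfl : FlatMod.IsFlatOver f F) :
    DCoh.IsPerfect ((DCoh.Rpush f).obj (DCoh.inD X F)) := by
  obtain ⟨A₀, hA₀, X₀, f₀, hf₀, F₀, hF₀, q, H, e, hfl₀⟩ := CohCmpLib.exists_proper_descent f F hF hfl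
  haveI := hf₀
  haveI : IsNoetherianRing ↥A₀ := by
    haveI : Algebra.FiniteType ℤ ↥A₀ := (Subalgebra.fg_iff_finiteType A₀).mp hA₀
    exact Algebra.FiniteType.isNoetherianRing ℤ ↥A₀
  haveI : IsNoetherian (Spec (CommRingCat.of ↥A₀)) := inferInstance
  let g := Spec.map (CommRingCat.ofHom A₀.val.toRingHom)
  haveI := Groth.Agent.DCohRestrLib.hasRpush f₀
  haveI := KFlatLib.hasLpull g
  have hsupp : ClSub.IsProperOver f₀ (CohB1.support F₀) :=
    ProperOverLib.of_map (𝟙 X₀) f₀ _ (QCohLib.isClosed_support _ hF₀.2) (fun x _ => ⟨x, rfl⟩)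
  have h₀ := isPerfect_rpush_inD_noetherian f₀ F₀ hF₀ hfl₀ hsupp
  obtain ⟨c⟩ := nonempty_baseChange_inD H F₀ hF₀.1 hfl₀
  exact Groth.Agent.PerfLib.isPerfect_of_iso
    (c ≪≫ (DCoh.Rpush f).mapIso ((DerivedCategory.singleFunctor X.Modules 0).mapIso e))
    (Groth.Agent.S0921.result g _ h₀)

/-- Restriction to an open is the derived inverse image. -/
theorem nonempty_lpull_restrictD {U : Scheme.{u}} (W : X.Opens) [DCoh.HasLpull W.ι] (K : DCoh.D X) :
    Nonempty ((DCoh.Lpull W.ι).obj K ≅ (DCoh.restrictD W.ι).obj K) := by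
  obtain ⟨P, hP, ⟨e⟩⟩ := KFlatLib.exists_good_rep K
  exact ⟨(DCoh.Lpull W.ι).mapIso e.symm ≪≫ KFlatLib.lpullObjIso W.ι P hP.1 ≪≫
    DerivedCategory.Q.mapIso ((KFlatLib.restrictCxIso W).app P).symm ≪≫
    ((Scheme.Modules.restrictFunctor W.ι).mapDerivedCategoryFactors.app P).symm ≪≫
    (DCoh.restrictD W.ι).mapIso e⟩

/-- `Rf_*` of a flat module along a proper morphism of finite presentation is perfect. -/
theorem isPerfect_rpush_inD (f : X ⟶ S) [IsProper f] [LocallyOfFinitePresentation f]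
    [DCoh.HasRpush f] (F : X.Modules) [Coh.IsQCoh F] (hF : CohB1.IsFP F)
    (hfl : FlatMod.IsFlatOver f F) : DCoh.IsPerfect ((DCoh.Rpush f).obj (DCoh.inD X F)) := by
  refine Groth.Agent.PerfDualLib.isPerfect_of_local fun s => ?_
  obtain ⟨W, hW, hs⟩ := QCohLib.exists_affine_nhd s
  refine ⟨W, hs, ?_⟩
  let fW := RpushLib.overW f hW
  haveI : IsProper (f ∣_ W) := MorphismProperty.of_isPullback
    (isPullback_morphismRestrict f W).flip inferInstance
  haveI : IsProper fW := inferInstanceAs (IsProper ((f ∣_ W) ≫ hW.isoSpec.hom))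
  haveI : LocallyOfFinitePresentation (f ∣_ W) := MorphismProperty.of_isPullback
    (isPullback_morphismRestrict f W).flip inferInstance
  haveI : LocallyOfFinitePresentation fW :=
    inferInstanceAs (LocallyOfFinitePresentation ((f ∣_ W) ≫ hW.isoSpec.hom))
  haveI := Groth.Agent.DCohRestrLib.hasRpush fW
  haveI := Groth.Agent.DCohRestrLib.hasRpush (f ∣_ W)
  haveI := KFlatLib.hasLpull hW.fromSpec
  haveI := KFlatLib.hasLpull W.ι
  let F' := (Scheme.Modules.pullback (f ⁻¹ᵁ W).ι).obj F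
  have hflW : FlatMod.IsFlatOver fW F' := fun x => (RichLib.ModFlat.isFlatOverAt_congr (f := f)
    (f ⁻¹ᵁ W).ι hW.fromSpec (CohBCLib.isPullback_overW f hW).w.symm (Iso.refl _) x).2 (hfl _)
  have hFW : CohB1.IsFP F' := RichLib.ModFlat.isFP_pullback (f ⁻¹ᵁ W).ι hF
  have hp := isPerfect_rpush_inD_affine fW F' hFW hflW
  obtain ⟨c⟩ := nonempty_baseChange_inD (CohBCLib.isPullback_overW f hW) F ‹_› hfl
  haveI := KFlatLib.hasLpull hW.isoSpec.hom
  have hι : hW.isoSpec.hom ≫ hW.fromSpec = W.ι := hW.isoSpec_hom_fromSpec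
  obtain ⟨r⟩ := nonempty_lpull_restrictD (U := (W : Scheme.{u})) W ((DCoh.Rpush f).obj (DCoh.inD X F))
  haveI := KFlatLib.hasLpull (hW.isoSpec.hom ≫ hW.fromSpec)
  obtain ⟨cmp⟩ := KFlatLib.lpull_comp hW.isoSpec.hom hW.fromSpec
  have h1 : DCoh.IsPerfect ((DCoh.Lpull (hW.isoSpec.hom ≫ hW.fromSpec)).obj
      ((DCoh.Rpush f).obj (DCoh.inD X F))) :=
    Groth.Agent.PerfLib.isPerfect_of_iso (cmp.app _)
      (Groth.Agent.S0921.result hW.isoSpec.hom _ (Groth.Agent.PerfLib.isPerfect_of_iso c.symm hp))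
  have h2 : ∀ (g₁ g₂ : (W : Scheme.{u}) ⟶ S) (_ : g₁ = g₂) (_ : DCoh.HasLpull g₁) (_ : DCoh.HasLpull g₂),
      DCoh.IsPerfect ((DCoh.Lpull g₁).obj ((DCoh.Rpush f).obj (DCoh.inD X F))) →
      DCoh.IsPerfect ((DCoh.Lpull g₂).obj ((DCoh.Rpush f).obj (DCoh.inD X F))) := by
    rintro g₁ g₂ rfl _ _ h
    exact h
  exact Groth.Agent.PerfLib.isPerfect_of_iso r (h2 _ _ hι inferInstance inferInstance h1)

end PerfBaseLib
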