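import Groth.Agent.PerfBaseLib.RpushTor
import Groth.Agent.S0914
import Groth.Agent.DerBCLib.Chart
import Groth.Agent.DerBCLib.Models
import Groth.Agent.DRingLib.AmplitudeBC
import Groth.Agent.DerLib.ExactHomology
import Groth.Agent.S2297
import Groth.Agent.PerfLib.Coherent
import Groth.Agent.KFlatLib.PerfectPull

/-!
# Twists of perfect objects by modules flat over the base
-/

set_option autoImplicit false
set_option backward.isDefEq.respectTransparency false
set_option backward.isDefEq.respectTransparency.types false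
set_option maxHeartbeats 1000000
set_option linter.style.haveILetI false

universe u

open CategoryTheory CategoryTheory.Limits AlgebraicGeometry MonoidalCategory HomologicalComplex
open Groth.Agent
open scoped TensorProduct

attribute [local instance] HasDerivedCategory.standard

namespace PerfBaseLib

section Alg

theorem flat_tensor_of_flat (R A : Type u) [CommRing R] [CommRing A] [Algebra R A]
    (L N : Type u) [AddCommGroup L] [Module A L] [Module R L] [IsScalarTower R A L]
    [AddCommGroup N] [Module A N] [Module R N] [IsScalarTower R A N]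
    [Module.Flat A L] [Module.Flat R N] : Module.Flat R (L ⊗[A] N) := by
  rw [Module.Flat.iff_lTensor_preserves_injective_linearMap]
  intro P P' _ _ _ _ ι hι
  let g : N ⊗[R] P →ₗ[A] N ⊗[R] P' := TensorProduct.AlgebraTensorModule.map LinearMap.id ι
  have hg : Function.Injective g := Module.Flat.lTensor_preserves_injective_linearMap ι hι
  have hinj := Module.Flat.lTensor_preserves_injective_linearMap (M := L) g hg
  let eP := TensorProduct.AlgebraTensorModule.assoc R A A L N P
  let eP' := TensorProduct.AlgebraTensorModule.assoc R A A L N P'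
  have h : ∀ x, eP' (LinearMap.lTensor (L ⊗[A] N) ι x) = LinearMap.lTensor L g (eP x) := by
    intro x
    induction x using TensorProduct.induction_on with
    | zero => simp only [map_zero]
    | add x y hx hy => simp only [map_add, hx, hy]
    | tmul z p =>
      induction z using TensorProduct.induction_on with
      | zero => simp only [TensorProduct.zero_tmul, map_zero]
      | add z z' hz hz' => simp only [TensorProduct.add_tmul, map_add, hz, hz']
      | tmul l n => rfl
  intro x y hxy
  apply eP.injective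
  apply hinj
  rw [← h, ← h, hxy]

variable {R A : Type u} [CommRing R] [CommRing A] (φ : R →+* A)

/-- Twisting finite tor amplitude by a module flat over the base. -/
theorem hasTorAmplitudeIn_tensorN {P : CochainComplex (ModuleCat.{u} A) ℤ} (hP : DRing.IsKFlat A P)
    {a b : ℤ} (h : DRingLib.Amp a b P) (G : ModuleCat.{u} A)
    [Module.Flat R ((ModuleCat.restrictScalars φ).obj G)] :
    DRing.HasTorAmplitudeIn R a b (DRing.toD
      (((ModuleCat.restrictScalars φ).mapHomologicalComplex (ComplexShape.up ℤ)).obj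
        (KFlatLib.tensorN P G))) := by
  obtain ⟨L, hL, hLf, ⟨e⟩⟩ := DRingLib.hasTorAmplitudeIn_of_amp hP (Iso.refl _) h
  obtain ⟨F, hFb, hFf, ⟨eF⟩⟩ := DRingLib.exists_free_rep (DerivedCategory.Q.obj L) b fun i hi =>
    DRingLib.isZero_Hn_Q L i (hL i (Or.inr hi))
  haveI := DRingLib.isKProjective_of_free F b hFb hFf
  obtain ⟨g₁, hg₁⟩ := DRingLib.exists_qis_of_iso F L eF
  obtain ⟨g₂, hg₂⟩ := DRingLib.exists_qis_of_iso F P (eF ≪≫ e)
  haveI := hg₁
  haveI := hg₂
  have hF := DRingLib.isKFlat_of_free F b hFb hFf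
  haveI := DRingLib.quasiIso_tensorN g₁ hF (DRingLib.isKFlat_of_flatAmplitude hL hLf) G
  haveI := DRingLib.quasiIso_tensorN g₂ hF hP G
  let rs := (ModuleCat.restrictScalars φ).mapHomologicalComplex (ComplexShape.up ℤ)
  haveI : QuasiIso (rs.map ((DRingLib.tensorNF G).map g₁)) := inferInstance
  haveI : QuasiIso (rs.map ((DRingLib.tensorNF G).map g₂)) := inferInstance
  refine ⟨rs.obj (KFlatLib.tensorN L G),
    fun i hi => (ModuleCat.restrictScalars φ).map_isZero ((tensorRight G).map_isZero (hL i hi)),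
    fun i => ?_, ⟨(asIso (DerivedCategory.Q.map (rs.map ((DRingLib.tensorNF G).map g₁)))).symm ≪≫
      asIso (DerivedCategory.Q.map (rs.map ((DRingLib.tensorNF G).map g₂)))⟩⟩
  letI := φ.toAlgebra
  letI : Module R (L.X i) := Module.compHom (L.X i) φ
  haveI : IsScalarTower R A (L.X i) := IsScalarTower.of_algebraMap_smul fun r x => rfl
  letI : Module R G := Module.compHom G φ
  haveI : IsScalarTower R A G := IsScalarTower.of_algebraMap_smul fun r x => rfl
  haveI : Module.Flat R G := ‹Module.Flat R ((ModuleCat.restrictScalars φ).obj G)›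
  haveI : Module.Flat A (L.X i) := hLf i
  haveI := flat_tensor_of_flat R A (L.X i) G
  refine Module.Flat.of_linearEquiv (M := (L.X i) ⊗[A] G)
    { toFun := fun x => x
      invFun := fun x => x
      map_add' := fun _ _ => rfl
      map_smul' := fun r x => ?_
      left_inv := fun _ => rfl
      right_inv := fun _ => rfl }
  let x' : (L.X i) ⊗[A] G := x
  exact algebraMap_smul A r x'

/-- `Amp` descends along bijective ring maps. -/
theorem amp_of_bijective (hφ : Function.Bijective φ) {P : CochainComplex (ModuleCat.{u} R) ℤ}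
    (hP : DRing.IsKFlat R P) {a b : ℤ}
    (h : DRing.HasTorAmplitudeIn A a b (DerivedCategory.Q.obj ((DRingLib.extCx φ).obj P))) :
    DRingLib.Amp a b P := by
  letI := φ.toAlgebra
  haveI : Module.FaithfullyFlat R A :=
    Module.FaithfullyFlat.of_linearEquiv R R (LinearEquiv.ofBijective (Algebra.linearMap R A) hφ).symm
  exact DRingLib.amp_of_hasTorAmplitudeIn
    (DRingLib.hasTorAmplitudeIn_of_family (S := fun _ : Fin 1 => A)
      (DRingLib.detectsZero_of_faithfullyFlat (fun _ : Fin 1 => A) 0) P a b fun _ => h) hP (Iso.refl _)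

end Alg

variable {X S : Scheme.{u}}

/-- Perfect objects have uniformly bounded tor amplitude near each point. -/
theorem exists_amp_of_isPerfect {P : CochainComplex X.Modules ℤ} (hP : DCoh.IsKFlat P)
    (hper : DCoh.IsPerfect (DCoh.toD X P)) (x : X) :
    ∃ (V : X.Opens) (a b : ℤ), x ∈ V ∧
      ∀ x' : X, x' ∈ V → DRingLib.Amp a b ((KFlatLib.stalkCx X x').obj P) := by
  obtain ⟨V, a, b, hx, hV⟩ := ((Groth.Agent.S0914.result (DCoh.toD X P)).1 hper).2 x
  obtain ⟨L, hL, hLf, ⟨eL⟩⟩ := hV P ⟨Iso.refl _⟩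
  refine ⟨V, a, b, hx, fun x' hx' => ?_⟩
  let v : (V : Scheme.{u}) := ⟨x', hx'⟩
  change DRingLib.Amp a b ((KFlatLib.stalkCx X (V.ι v)).obj P)
  refine amp_of_bijective (V.ι.stalkMap v).hom (ConcreteCategory.bijective_of_isIso (V.ι.stalkMap v))
    (KFlatLib.stalks_isKFlat hP _) ?_
  let St := (DerSch.stalkFunctor (V : Scheme.{u}) v)
  let eD : DerivedCategory.Q.obj ((KFlatLib.stalkCx _ v).obj L) ≅
      DerivedCategory.Q.obj ((DRingLib.extCx (V.ι.stalkMap v).hom).obj
        ((KFlatLib.stalkCx X (V.ι v)).obj P)) :=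
    (St.mapDerivedCategoryFactors.app L).symm ≪≫ St.mapDerivedCategory.mapIso eL ≪≫
      St.mapDerivedCategoryFactors.app _ ≪≫
      DerivedCategory.Q.mapIso ((KFlatLib.stalkCx _ v).mapIso ((KFlatLib.restrictCxIso V).app P) ≪≫
        KFlatLib.stalkPullCxIso V.ι v P)
  exact ⟨(KFlatLib.stalkCx _ v).obj L, fun i hi => St.map_isZero (hL i hi), fun i => hLf i v, ⟨eD⟩⟩

/-- A uniform bound on a compact set. -/
theorem exists_amp_of_isCompact {P : CochainComplex X.Modules ℤ} (hP : DCoh.IsKFlat P)
    (hper : DCoh.IsPerfect (DCoh.toD X P)) {Z : Set X} (hZ : IsCompact Z) :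
    ∃ a b : ℤ, a ≤ b ∧ ∀ x ∈ Z, DRingLib.Amp a b ((KFlatLib.stalkCx X x).obj P) := by
  refine hZ.induction_on (p := fun s => ∃ a b : ℤ, a ≤ b ∧ ∀ x ∈ s,
    DRingLib.Amp a b ((KFlatLib.stalkCx X x).obj P)) ⟨0, 0, le_rfl, by simp⟩
    (fun s t hst ⟨a, b, hab, h⟩ => ⟨a, b, hab, fun x hx => h x (hst hx)⟩) ?_ ?_
  · rintro s t ⟨a, b, hab, h⟩ ⟨a', b', -, h'⟩
    refine ⟨min a a', max b b', (min_le_left _ _).trans (hab.trans (le_max_left _ _)), fun x hx N i hi => ?_⟩
    rcases hx with hx | hx
    · exact h x hx N i (hi.imp (fun h => lt_of_lt_of_le h (min_le_left _ _))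
        (fun h => lt_of_le_of_lt (le_max_left _ _) h))
    · exact h' x hx N i (hi.imp (fun h => lt_of_lt_of_le h (min_le_right _ _))
        (fun h => lt_of_le_of_lt (le_max_right _ _) h))
  · intro x _
    obtain ⟨V, a, b, hx, h⟩ := exists_amp_of_isPerfect hP hper x
    refine ⟨V, mem_nhdsWithin_of_mem_nhds (V.2.mem_nhds hx), a, max a b, le_max_left _ _,
      fun y hy N i hi => h y hy N i (hi.imp id fun h => lt_of_le_of_lt (le_max_right _ _) h)⟩

theorem flat_stalk_of_flatOver {f : X ⟶ S} {G : X.Modules} (h : FlatMod.IsFlatOver f G) (x : X) :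
    Module.Flat (S.presheaf.stalk (f x))
      ((ModuleCat.restrictScalars (f.stalkMap x).hom).obj ((DerSch.stalkFunctor X x).obj G)) :=
  h x

variable (f : X ⟶ S) (G : X.Modules) (P : CochainComplex X.Modules ℤ)

theorem subsingleton_stalk_of_notMem {x : X} (hx : x ∉ CohB1.support G) :
    IsZero ((DerSch.stalkFunctor X x).obj G) :=
  @ModuleCat.isZero_of_subsingleton _ _ _ (not_not.1 hx)

/-- Twisted perfect objects have finite tor amplitude over the base. -/
theorem hasTorAmplitude_tensorMod (hP : DCoh.IsKFlat P) (hflat : FlatMod.IsFlatOver f G) {a b : ℤ}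
    (h : ∀ x ∈ CohB1.support G, DRingLib.Amp a b ((KFlatLib.stalkCx X x).obj P)) :
    DerSch.HasTorAmplitude f a b ((KFlatLib.tensorModCx G).obj P) := by
  intro x
  refine DRingLib.hasTorAmplitudeIn_of_iso (DerivedCategory.Q.mapIso
    (((ModuleCat.restrictScalars (f.stalkMap x).hom).mapHomologicalComplex (ComplexShape.up ℤ)).mapIso
      (KFlatLib.stalkTensorModCxIso x G P))) ?_
  by_cases hx : x ∈ CohB1.support G
  · haveI := flat_stalk_of_flatOver hflat x
    exact hasTorAmplitudeIn_tensorN _ (KFlatLib.stalks_isKFlat hP x) (h x hx) _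
  · refine DRingLib.hasTorAmplitudeIn_of_isZero (Functor.map_isZero _ ?_) a b
    rw [IsZero.iff_id_eq_zero]
    ext n : 1
    exact ((ModuleCat.restrictScalars _).map_isZero ((tensorLeft _).map_isZero
      (subsingleton_stalk_of_notMem G hx))).eq_of_src _ _

theorem isZero_homology_tensorMod {a b : ℤ}
    (h : ∀ x ∈ CohB1.support G, DRingLib.Amp a b ((KFlatLib.stalkCx X x).obj P)) (i : ℤ)
    (hi : i < a ∨ b < i) : IsZero (((KFlatLib.tensorModCx G).obj P).homology i) := by
  rw [KFlatLib.isZero_homology_iff]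
  intro x
  refine IsZero.of_iso ?_ ((homologyFunctor _ _ i).mapIso (KFlatLib.stalkTensorModCxIso x G P).symm)
  by_cases hx : x ∈ CohB1.support G
  · exact h x hx _ i hi
  · exact DerBCLib.isZero_homology_of_X _ _ ((tensorLeft _).map_isZero (subsingleton_stalk_of_notMem G hx))

theorem support_homology_tensorMod (i : ℤ) :
    CohB1.support (((KFlatLib.tensorModCx G).obj P).homology i) ⊆ CohB1.support G := by
  intro x hx
  by_contra hx'
  refine hx ?_
  have hz : IsZero (((KFlatLib.stalkCx X x).obj ((KFlatLib.tensorModCx G).obj P)).homology i) :=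
    IsZero.of_iso (DerBCLib.isZero_homology_of_X _ _ ((tensorLeft _).map_isZero
      (subsingleton_stalk_of_notMem G hx')))
      ((homologyFunctor _ _ i).mapIso (KFlatLib.stalkTensorModCxIso x G P).symm)
  exact ModuleCat.subsingleton_of_isZero (hz.of_iso (KFlatLib.stalkHomologyIso _ x i).symm)

/-- Twists of perfect objects by coherent modules have coherent cohomology. -/
theorem isCohD_tensorMod [IsLocallyNoetherian X] (hP : DCoh.IsKFlat P)
    (hper : DCoh.IsPerfect (DCoh.toD X P)) (hG : Coh.IsCoh G) :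
    DCoh.IsCohD (DCoh.toD X ((KFlatLib.tensorModCx G).obj P)) := by
  intro i
  refine QCohLib.isCoh_of_iso (KFlatLib.hdToD _ i).symm ?_
  have h : ∀ x : X, ∃ V : X.Opens, x ∈ V ∧
      Coh.IsCoh ((((KFlatLib.tensorModCx G).obj P).homology i).restrict V.ι) := fun x => by
    obtain ⟨V, hx, hV⟩ := hper x
    obtain ⟨E, hE, ⟨e⟩⟩ := hV P ⟨Iso.refl _⟩
    refine ⟨V, hx, ?_⟩
    let GV := (Scheme.Modules.pullback V.ι).obj G
    have hGV : Coh.IsCoh GV := QCohLib.isCoh_of_iso ((Scheme.Modules.restrictFunctorIsoPullback V.ι).app G)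
      (haveI := hG.1; ⟨Groth.Agent.PerfDualLib.isQCoh_restrict G V, RpushLib.isFT_restrict hG.2 V⟩)
    have hPV : DCoh.IsKFlat ((KFlatLib.pullCx V.ι).obj P) := KFlatLib.isKFlat_pull _ hP
    haveI := KFlatLib.hasLTensorMod GV
    let eV : DCoh.toD _ ((KFlatLib.tensorModCx GV).obj ((KFlatLib.pullCx V.ι).obj P)) ≅
        DCoh.toD _ ((KFlatLib.tensorModCx GV).obj E) :=
      (KFlatLib.lTensorModObjIso GV _ hPV).symm ≪≫ (DCoh.LTensorMod GV).mapIso
        (DerivedCategory.Q.mapIso ((KFlatLib.restrictCxIso V).app P).symm ≪≫ e) ≪≫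
        KFlatLib.lTensorModObjIso GV E (KFlatLib.isKFlat_of_isStrictlyPerfect hE)
    haveI : PreservesFiniteLimits (Scheme.Modules.pullback V.ι) :=
      preservesFiniteLimits_of_natIso (Scheme.Modules.restrictFunctorIsoPullback V.ι)
    haveI : (Scheme.Modules.pullback V.ι).PreservesHomology := inferInstance
    refine QCohLib.isCoh_of_iso (?_ : ((KFlatLib.tensorModCx GV).obj E).homology i ≅ _)
      (Groth.Agent.PerfLib.isCoh_homology _ (fun n => ?_) i)
    swap
    · have hn := Groth.Agent.PerfLib.isCoh_of_isFinLocFree (hE.2 n)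
      haveI := hn.1
      haveI := hGV.1
      obtain ⟨h1, h2⟩ := Groth.Agent.S2297.result (E.X n) GV
      exact ⟨h1, h2 hn.2 hGV.2⟩
    exact (KFlatLib.hdToD _ i).symm ≪≫ ((DerivedCategory.homologyFunctor _ i).mapIso eV).symm ≪≫
      KFlatLib.hdToD _ i ≪≫
      (homologyFunctor _ _ i).mapIso ((DerBCLib.pullTensCxIso V.ι G).app P).symm ≪≫
      (((KFlatLib.tensorModCx G).obj P).sc i).mapHomologyIso (Scheme.Modules.pullback V.ι) ≪≫
      ((Scheme.Modules.restrictFunctorIsoPullback V.ι).app _).symm
  choose V hxV hV using h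
  exact Groth.Agent.PerfLib.isCoh_of_cover _ V
    (eq_top_iff.2 fun x _ => TopologicalSpace.Opens.mem_iSup.2 ⟨x, hxV x⟩) hV

/-- The direct image of a twisted perfect object is perfect. -/
theorem isPerfect_rpush_tensorMod [IsNoetherian S] [LocallyOfFiniteType f] [DCoh.HasRpush f]
    (hP : DCoh.IsKFlat P) (hper : DCoh.IsPerfect (DCoh.toD X P)) (hG : Coh.IsCoh G)
    (hflat : FlatMod.IsFlatOver f G) (hsupp : ClSub.IsProperOver f (CohB1.support G)) :
    DCoh.IsPerfect ((DCoh.Rpush f).obj (DCoh.toD X ((KFlatLib.tensorModCx G).obj P))) := by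
  haveI : IsLocallyNoetherian X := LocallyOfFiniteType.isLocallyNoetherian f
  obtain ⟨Z, j, hj, hr, hp⟩ := ProperOverLib.exists_closedImmersion hsupp
  haveI : CompactSpace ↥Z := QuasiCompact.compactSpace_of_compactSpace (j ≫ f)
  have hc : IsCompact (CohB1.support G) := hr ▸ isCompact_range j.continuous
  obtain ⟨a, b, -, hab⟩ := exists_amp_of_isCompact hP hper hc
  let T := (KFlatLib.tensorModCx G).obj P
  have hcoh := isCohD_tensorMod G P hP hper hG
  haveI : (DCoh.toD X T).IsGE a := (DerivedCategory.isGE_iff _ a).2 fun i hi =>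
    (KFlatLib.isZero_HD_iff (Iso.refl _) i).2 (isZero_homology_tensorMod G P hab i (Or.inl hi))
  haveI : (DCoh.toD X T).IsLE b := (DerivedCategory.isLE_iff _ b).2 fun i hi =>
    (KFlatLib.isZero_HD_iff (Iso.refl _) i).2 (isZero_homology_tensorMod G P hab i (Or.inr hi))
  refine isPerfect_rpush f T hcoh a b (fun i => ?_)
    (tensorBounded_of_tor f T (hasTorAmplitude_tensorMod f G P hP hflat hab))
  exact isProperOver_of_subset f (QCohLib.isClosed_support _ (hcoh i).2)
    ((DevissLib.support_iso (KFlatLib.hdToD T i)).le.trans (support_homology_tensorMod G P i)) hsupp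

end PerfBaseLib
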