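import Groth.Agent.PerfBaseLib.SplitUnitCx
import Groth.Agent.PerfBaseLib.FlatProper
import Groth.Agent.PerfFibreLib.OpenLocus
import Groth.Agent.CohCmpLib.FamilyPic2
import Groth.Agent.CohCmpLib.LineBundle
import Groth.Agent.H0Lib.Main

/-!
# Splitting off the structure sheaf from `Rf_*O`
-/

set_option autoImplicit false
set_option backward.isDefEq.respectTransparency false
set_option backward.isDefEq.respectTransparency.types false
set_option maxHeartbeats 1000000
set_option linter.style.haveILetI false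

universe u

open CategoryTheory CategoryTheory.Limits AlgebraicGeometry HomologicalComplex Opposite
open Groth.Agent

attribute [local instance] HasDerivedCategory.standard

namespace PerfBaseLib

open Groth.Agent.PerfLib (resD resC res)
open Groth.Agent.PerfFibreLib

variable {X S : Scheme.{u}}

/-- Cohomology sheaves of the direct image of a module in low degrees. -/
theorem HD_rpush_inD (f : X ⟶ S) [DCoh.HasRpush f] (M : X.Modules) :
    (∀ q : ℤ, q < 0 → IsZero (DCoh.HD ((DCoh.Rpush f).obj (DCoh.inD X M)) q)) ∧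
      Nonempty (DCoh.HD ((DCoh.Rpush f).obj (DCoh.inD X M)) 0 ≅ (Scheme.Modules.pushforward f).obj M) := by
  haveI : EnoughInjectives X.Modules := IsGrothendieckAbelian.enoughInjectives.{u}
  let R := injectiveResolution M
  haveI : R.cochainComplex.IsKInjective := CochainComplex.isKInjective_of_injective _ 0
  obtain ⟨eP⟩ := QRlimLib.nonempty_pushIso f R.cochainComplex
  let e := (DCoh.Rpush f).mapIso (((DerivedCategory.singleFunctorIsoCompQ X.Modules 0).app M) ≪≫
    asIso (DerivedCategory.Q.map R.ι')) ≪≫ eP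
  haveI : PreservesFiniteLimits (Scheme.Modules.pushforward f) := CohCmpLib.preservesFiniteLimits_push
  constructor
  · intro q hq
    refine IsZero.of_iso (HomologicalComplex.ExactAt.isZero_homology ?_)
      ((DerivedCategory.homologyFunctor S.Modules q).mapIso e ≪≫
        (DerivedCategory.homologyFunctorFactors S.Modules q).app _)
    exact (HomologicalComplex.exactAt_iff _ q).2 (ShortComplex.exact_of_isZero_X₂ _
      ((Scheme.Modules.pushforward f).map_isZero
        (R.cochainComplex.isZero_of_isStrictlyGE 0 q (by omega))))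
  · exact ⟨(DerivedCategory.homologyFunctor S.Modules 0).mapIso e ≪≫
      (DerivedCategory.homologyFunctorFactors S.Modules 0).app _ ≪≫
      (HomologicalComplex.homologyFunctor S.Modules (ComplexShape.up ℤ) 0).mapIso
        (SpSeqLib.mapExtendNatIso (Scheme.Modules.pushforward f) R.cocomplex) ≪≫
      HomologicalComplex.extendHomologyIso _ ComplexShape.embeddingUpNat (j := 0) (j' := (0 : ℤ)) (by simp) ≪≫
      (R.isoRightDerivedObj (Scheme.Modules.pushforward f) 0).symm ≪≫
      (Scheme.Modules.pushforward f).rightDerivedZeroIsoSelf.app M⟩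

/-- `fibre functions constant` gives `H0Fib`. -/
theorem h0Fib_of_isIso (f : X ⟶ S) [QuasiCompact f] [QuasiSeparated f]
    (h : ∀ s : S, IsIso (f.fiberToSpecResidueField s).appTop) : H0Lib.H0Fib f :=
  H0Lib.H0Fib.of_fiber f fun s => by
    haveI := h s
    exact ConcreteCategory.bijective_of_isIso
      ((Scheme.ΓSpecIso (S.residueField s)).inv ≫ (f.fiberToSpecResidueField s).appTop)

/-- The direct image of `O` is `O`. -/
theorem isIso_unit_of_h0 (f : X ⟶ S) [IsProper f] [Flat f] [LocallyOfFinitePresentation f]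
    (h : H0Lib.H0Fib f) : IsIso (ClSub.unitToPush f) :=
  CohCmpLib.isIso_unitToPush_of_app f fun U =>
    (ConcreteCategory.isIso_iff_bijective _).2 (H0Lib.bijective_app f h U)

theorem isFlatOver_unit (f : X ⟶ S) [Flat f] : FlatMod.IsFlatOver f (Coh.structureModule X) :=
  (CohCmpLib.rank_one_hyps f (CohCmpLib.rank_one_structureModule X)).2.2

/-- The fibre cohomology of `Rf_*O` in degrees at most zero. -/
theorem hTop_fibre (f : X ⟶ S) [IsProper f] [Flat f] [LocallyOfFinitePresentation f] [DCoh.HasRpush f]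
    (h : H0Lib.H0Fib f) (K : Type u) [Field K] (g : Spec (CommRingCat.of K) ⟶ S) [DCoh.HasLpull g] :
    (∀ k : ℤ, k < 0 → hTop ((DCoh.Lpull g).obj ((DCoh.Rpush f).obj (DCoh.inD X (Coh.structureModule X)))) k = 0) ∧
      hTop ((DCoh.Lpull g).obj ((DCoh.Rpush f).obj (DCoh.inD X (Coh.structureModule X)))) 0 = 1 := by
  let H := IsPullback.of_hasPullback f g
  haveI : IsProper (pullback.snd f g) := MorphismProperty.pullback_snd _ _ ‹IsProper f›
  haveI : Flat (pullback.snd f g) := MorphismProperty.pullback_snd _ _ ‹Flat f›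
  haveI : LocallyOfFinitePresentation (pullback.snd f g) :=
    MorphismProperty.pullback_snd _ _ ‹LocallyOfFinitePresentation f›
  haveI := Groth.Agent.DCohRestrLib.hasRpush (pullback.snd f g)
  obtain ⟨c⟩ := nonempty_baseChange_inD H (Coh.structureModule X) QCohLib.isQCoh_unit (isFlatOver_unit f)
  let e := c ≪≫ (DCoh.Rpush (pullback.snd f g)).mapIso
    ((DerivedCategory.singleFunctor _ 0).mapIso (KFlatLib.pullUnitIso (f := pullback.fst f g)))
  obtain ⟨hneg, ⟨e0⟩⟩ := HD_rpush_inD (pullback.snd f g) (Coh.structureModule (pullback f g))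
  refine ⟨fun k hk => (hTop_iso e k).trans (topRank_isZero _ (hneg k hk)), ?_⟩
  haveI := isIso_unit_of_h0 (pullback.snd f g) (h.baseChange H)
  refine (hTop_iso e 0).trans ((topRank_iso (e0 ≪≫ (asIso (ClSub.unitToPush (pullback.snd f g))).symm)).trans ?_)
  exact (topRank_iso (coproductUniqueIso (fun _ : Fin 1 => Coh.structureModule (Spec (CommRingCat.of K)))).symm).trans
    (topRank_freeMod (CommRingCat.of K) 1)

/-- A strictly perfect complex is perfect. -/
theorem isPerfect_of_strictlyPerfect {E : CochainComplex S.Modules ℤ} (hE : DCoh.IsStrictlyPerfect E) :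
    DCoh.IsPerfect (DCoh.toD S E) :=
  fun _ => ⟨⊤, trivial, fun F ⟨e⟩ => ⟨_, Groth.Agent.PerfLib.isStrictlyPerfect_res (⊤ : S.Opens).ι hE,
    ⟨(Groth.Agent.PerfLib.resDQIso _ F).symm ≪≫ (resD _).mapIso e ≪≫ Groth.Agent.PerfLib.resDQIso _ _⟩⟩⟩

/-- The structure sheaf splits off locally from `Rf_*O`. -/
theorem exists_split_nhd (f : X ⟶ S) [IsProper f] [Flat f] [LocallyOfFinitePresentation f]
    (h : ∀ s : S, IsIso (f.fiberToSpecResidueField s).appTop) (s : S) :
    ∃ V : S.Opens, s ∈ V ∧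
      ∀ [DCoh.HasRpush (f ∣_ V)] [∀ A B : DCoh.D (V : Scheme.{u}), HasBinaryBiproduct A B],
      ∃ (P : DCoh.D (V : Scheme.{u})) (b : ℤ), DCoh.IsPerfect P ∧ DCoh.HasTorAmplitudeIn 1 b P ∧
        Nonempty ((DCoh.Rpush (f ∣_ V)).obj (DCoh.inD (f ⁻¹ᵁ V : Scheme.{u}) (Coh.structureModule (f ⁻¹ᵁ V : Scheme.{u}))) ≅
          DCoh.inD (V : Scheme.{u}) (Coh.structureModule (V : Scheme.{u})) ⊞ P) := by
  haveI := Groth.Agent.DCohRestrLib.hasRpush f
  have hH := h0Fib_of_isIso f h
  haveI : Coh.IsQCoh (Coh.structureModule X) := QCohLib.isQCoh_unit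
  let K := (DCoh.Rpush f).obj (DCoh.inD X (Coh.structureModule X))
  have hK : DCoh.IsPerfect K :=
    isPerfect_rpush_inD f (Coh.structureModule X) (CohCmpLib.rank_one_hyps f (CohCmpLib.rank_one_structureModule X)).2.1 (isFlatOver_unit f)
  obtain ⟨A, j, hj, p, M, r, a, b, α, hp, -, hr, hM⟩ := exists_model_within hK ⊤ (x := s) trivial
  have hb : ∀ (q : PrimeSpectrum A), (∀ k, k < 0 → beta M q k = 0) ∧ beta M q 0 ≤ 1 := fun q => by
    let g : Spec (CommRingCat.of (S.residueField (j q))) ⟶ S := S.fromSpecResidueField (j q)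
    haveI := KFlatLib.hasLpull g
    have hg : ∀ z, g z = j q := fromSpecResidueField_apply' (j q)
    obtain ⟨h1, h2⟩ := hTop_fibre f hH _ g
    exact ⟨fun k hk => (hTop_field j M r a b hr hM α q _ g hg k).symm.trans (h1 k hk),
      le_of_eq ((hTop_field j M r a b hr hM α q _ g hg 0).symm.trans h2)⟩
  obtain ⟨-, ⟨e0⟩⟩ := HD_rpush_inD f (Coh.structureModule X)
  haveI := isIso_unit_of_h0 f hH
  let eH : (tilde.functor A).obj (M.homology 0) ≅ (tilde.functor A).obj (ModuleCat.of A A) :=
    (hdTilde M 0).symm ≪≫ (DerivedCategory.homologyFunctor (Spec A).Modules 0).mapIso α ≪≫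
      Groth.Agent.PerfLib.resHDIso j K 0 ≪≫
      (res j).mapIso (e0 ≪≫ (asIso (ClSub.unitToPush f)).symm) ≪≫
      (Scheme.Modules.restrictFunctorIsoPullback j).app _ ≪≫ KFlatLib.pullUnitIso (f := j)
  obtain ⟨hneg, hproj, π, hπ⟩ := split_unit_algebra M r a (fun k => (hM k).some)
    (fun k hk => hr k (Or.inl hk)) (fun q => (hb q).1) (fun q => (hb q).2)
    ((tilde.functor A).preimageIso eH).toLinearEquiv
  obtain ⟨φ, hφ⟩ := exists_quasiIso_biprod M hneg π hπ
  have hMX : ∀ i, Module.Projective A (M.X i) ∧ Module.Finite A (M.X i) := fun i =>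
    ⟨Module.Projective.of_equiv (hM i).some.symm, Module.Finite.equiv (hM i).some.symm⟩
  let T := CochainComplex.truncGE M 1
  let A₀ := (single (ModuleCat.{u} A) (ComplexShape.up ℤ) 0).obj (ModuleCat.of A A)
  haveI : QuasiIso ((tC A).map φ) := HomologicalComplex.quasiIso_map_of_preservesHomology φ (tilde.functor A)
  let V := j.opensRange
  let t := j.isoOpensRange.inv
  have ht : t ≫ j = V.ι := (Iso.inv_comp_eq _).2 (Scheme.Hom.isoOpensRange_hom_ι j).symm
  refine ⟨V, ⟨p, hp⟩, ?_⟩
  intro _ _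
  let E := (resC t).obj ((tC A).obj T)
  have hE : DCoh.IsStrictlyPerfect E := by
    refine Groth.Agent.PerfLib.isStrictlyPerfect_res t ⟨⟨1, max b 1, fun i hi => ?_⟩, fun i => ?_⟩
    · refine (tilde.functor A).map_isZero (isZero_truncGE_X M b (fun k hk => ?_) i hi)
      haveI : IsEmpty (Fin (r k)) := by rw [hr k (Or.inr hk)]; infer_instance
      haveI : Subsingleton (M.X k) := (hM k).some.injective.subsingleton
      exact ModuleCat.isZero_of_subsingleton _
    · obtain ⟨h1, h2⟩ := projective_truncGE_X M hMX i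
      exact (MiscFlat6.isFinLocFree_iff _).2 ⟨h2, h1⟩
  refine ⟨DCoh.toD V E, max b 1, isPerfect_of_strictlyPerfect hE,
    KFlatLib.torAmplitude_of_flatAmplitude ⟨E, fun i hi => ?_,
      fun i => KFlatLib.isFlat_of_isFinLocFree (hE.2 i), ⟨Iso.refl _⟩⟩, ?_⟩
  · refine (res t).map_isZero ((tilde.functor A).map_isZero (isZero_truncGE_X M b (fun k hk => ?_) i hi))
    haveI : IsEmpty (Fin (r k)) := by rw [hr k (Or.inr hk)]; infer_instance
    haveI : Subsingleton (M.X k) := (hM k).some.injective.subsingleton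
    exact ModuleCat.isZero_of_subsingleton _
  let Φ := tC A ⋙ resC t ⋙ DerivedCategory.Q
  haveI : Φ.Additive := inferInstance
  haveI := preservesBinaryBiproducts_of_preservesBiproducts Φ
  let eA : Φ.obj A₀ ≅ DCoh.inD (V : Scheme.{u}) (Coh.structureModule (V : Scheme.{u})) :=
    DerivedCategory.Q.mapIso ((resC t).mapIso
      ((singleMapHomologicalComplex (tilde.functor A) (ComplexShape.up ℤ) 0).app _) ≪≫
      (singleMapHomologicalComplex (res t) (ComplexShape.up ℤ) 0).app _ ≪≫
      (single _ (ComplexShape.up ℤ) 0).mapIso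
        ((res t).mapIso tildeSelf ≪≫ (Scheme.Modules.restrictFunctorIsoPullback t).app _ ≪≫
          KFlatLib.pullUnitIso (f := t))) ≪≫
      ((DerivedCategory.singleFunctorIsoCompQ _ 0).app _).symm
  let sq := (isPullback_morphismRestrict f V).flip
  haveI := KFlatLib.hasLpull V.ι
  obtain ⟨c⟩ := nonempty_baseChange_inD sq (Coh.structureModule X) QCohLib.isQCoh_unit (isFlatOver_unit f)
  obtain ⟨c₁⟩ := nonempty_lpull_res V.ι K
  obtain ⟨c₂⟩ := Groth.Agent.PerfLib.nonempty_resD_congr ht.symm K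
  obtain ⟨c₃⟩ := Groth.Agent.PerfLib.nonempty_resD_comp t j K
  exact ⟨(DCoh.Rpush (f ∣_ V)).mapIso
      ((DerivedCategory.singleFunctor _ 0).mapIso (KFlatLib.pullUnitIso (f := (f ⁻¹ᵁ V).ι)).symm) ≪≫
    c.symm ≪≫ c₁ ≪≫ c₂ ≪≫ c₃ ≪≫
    (resD t).mapIso (α.symm ≪≫ asIso (DerivedCategory.Q.map ((tC A).map φ))) ≪≫
    Groth.Agent.PerfLib.resDQIso t _ ≪≫ Φ.mapBiprod A₀ T ≪≫
    biprod.mapIso eA (Iso.refl _)⟩

end PerfBaseLib
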