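import Groth.Agent.DerBCLib.TorAcy
import Groth.Agent.DRingLib.Amplitude

/-!
# Tor amplitude and tensor products over a base ring
-/

set_option autoImplicit false
set_option backward.isDefEq.respectTransparency false
set_option maxHeartbeats 1000000
set_option linter.style.haveILetI false

universe u

open CategoryTheory CategoryTheory.Limits HomologicalComplex MonoidalCategory
open KFlatLib (tT tMap ιT projHom)
open Groth.Agent

attribute [local instance] HasDerivedCategory.standard

namespace PerfBaseLib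

variable {R : Type u} [CommRing R]

/-- A module in degree zero. -/
noncomputable abbrev M₀ (N : ModuleCat.{u} R) : CochainComplex (ModuleCat.{u} R) ℤ :=
  (CochainComplex.singleFunctor (ModuleCat.{u} R) 0).obj N

variable (N : ModuleCat.{u} R)

theorem isZero_M₀ (p : ℤ) (hp : p ≠ 0) : IsZero ((M₀ N).X p) :=
  isZero_single_obj_X (ComplexShape.up ℤ) 0 _ p hp

/-- `N ⊗ K ⟶ N[0] ⊗ K`, degreewise. -/
noncomputable def singleTX (K : CochainComplex (ModuleCat.{u} R) ℤ) (n : ℤ) :
    N ⊗ K.X n ⟶ (tT (M₀ N) K).X n :=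
  (singleObjXSelf (ComplexShape.up ℤ) 0 N).inv ▷ K.X n ≫ ιT (M₀ N) K 0 n n (zero_add n)

/-- `N ⊗ K ⟶ N[0] ⊗ K`. -/
noncomputable def singleT (K : CochainComplex (ModuleCat.{u} R) ℤ) :
    ((tensorLeft N).mapHomologicalComplex (ComplexShape.up ℤ)).obj K ⟶ tT (M₀ N) K where
  f := singleTX N K
  comm' := by
    rintro n n' hn
    obtain rfl : n + 1 = n' := hn
    have hd : (M₀ N).d 0 (0 + 1) = 0 := (isZero_M₀ N _ (by omega)).eq_of_tgt _ _
    have h := KFlatLib.ιT_d (M₀ N) K 0 n n (n + 1) (zero_add n) rfl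
    rw [hd, MonoidalPreadditive.zero_whiskerRight, zero_comp, zero_add, Int.negOnePow_zero,
      one_smul] at h
    change ((singleObjXSelf (ComplexShape.up ℤ) 0 _).inv ▷ K.X n ≫ _) ≫
        (tT (M₀ N) K).d n (n + 1) =
      (N ◁ K.d n (n + 1)) ≫ (singleObjXSelf (ComplexShape.up ℤ) 0 _).inv ▷ K.X (n + 1) ≫ _
    rw [Category.assoc, whisker_exchange_assoc]
    exact congrArg _ h

instance isIso_singleT (K : CochainComplex (ModuleCat.{u} R) ℤ) : IsIso (singleT N K) := by
  haveI : ∀ n, IsIso ((singleT N K).f n) := fun n => by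
    let j := ιT (M₀ N) K 0 n n (zero_add n)
    have h₁ : j ≫ KFlatLib.proj 0 n n (zero_add n) = 𝟙 _ := KFlatLib.ιT_proj _ _ _ _
    haveI : IsIso j := ⟨KFlatLib.proj 0 n n (zero_add n), h₁, by
      refine mapBifunctor.hom_ext fun p q h => ?_
      by_cases hp : p = 0
      · subst hp
        obtain rfl : q = n := by
          have : (0 : ℤ) + q = n := h
          omega
        rw [← Category.assoc]
        exact (congrArg (· ≫ j) (KFlatLib.ιT_proj _ _ _ _)).trans
          ((Category.id_comp _).trans (Category.comp_id _).symm)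
      · exact ((tensorRight (K.X q)).map_isZero (isZero_M₀ N p hp)).eq_of_src _ _⟩
    change IsIso ((singleObjXSelf (ComplexShape.up ℤ) 0 _).inv ▷ K.X n ≫ j)
    infer_instance
  exact HomologicalComplex.Hom.isIso_of_components _

/-- `C ⊗ N[0] ≅ C ⊗ N`. -/
noncomputable def tensorSingleIso (C : CochainComplex (ModuleCat.{u} R) ℤ) :
    tT C (M₀ N) ≅ KFlatLib.tensorN C N :=
  (KFlatLib.tensorFlipIso C (M₀ N)).symm ≪≫ (asIso (singleT N C)).symm ≪≫
    (NatIso.mapHomologicalComplex (BraidedCategory.tensorLeftIsoTensorRight N)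
      (ComplexShape.up ℤ)).app C

variable {N}

/-- A K-flat resolution of a module, tensored with a complex of finite tor amplitude. -/
theorem isZero_homology_tensor_of_torAmplitude {a b : ℤ} {C : CochainComplex (ModuleCat.{u} R) ℤ}
    (hC : DRing.HasTorAmplitudeIn R a b (DRing.toD C)) {P : CochainComplex (ModuleCat.{u} R) ℤ}
    (hP : DRing.IsKFlat R P) (q : P ⟶ M₀ N) [QuasiIso q] (i : ℤ) (hi : i < a ∨ b < i) :
    IsZero ((tT P C).homology i) := by
  obtain ⟨L, hL, hLf, ⟨e⟩⟩ := hC
  obtain ⟨F, hFb, hFf, ⟨eF⟩⟩ := DRingLib.exists_free_rep (DerivedCategory.Q.obj L) b fun i hi =>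
    DRingLib.isZero_Hn_Q L i (hL i (Or.inr hi))
  haveI := DRingLib.isKProjective_of_free F b hFb hFf
  obtain ⟨g₁, hg₁⟩ := DRingLib.exists_qis_of_iso F L eF
  obtain ⟨g₂, hg₂⟩ := DRingLib.exists_qis_of_iso F C (eF ≪≫ e)
  haveI := hg₁
  haveI := hg₂
  haveI := KFlatLib.quasiIso_tMap_left hP g₁
  haveI := KFlatLib.quasiIso_tMap_left hP g₂
  haveI := KFlatLib.quasiIso_tMap_right (DRingLib.isKFlat_of_flatAmplitude hL hLf) q
  refine IsZero.of_iso ?_ ((asIso (homologyMap (tMap (𝟙 P) g₂) i)).symm ≪≫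
    asIso (homologyMap (tMap (𝟙 P) g₁) i) ≪≫ asIso (homologyMap (tMap q (𝟙 L)) i) ≪≫
    ((homologyFunctor _ _ i).mapIso (asIso (singleT N L))).symm)
  exact DerBCLib.isZero_homology_of_X _ _ ((tensorLeft N).map_isZero (hL i hi))

section Ext

variable {A : Type u} [CommRing A] (φ : R →+* A)

/-- `(q, p) ↦ (A ⊗_R q) ⊗_A p`. -/
noncomputable abbrev ext₂ : ModuleCat.{u} R ⥤ ModuleCat.{u} A ⥤ ModuleCat.{u} A :=
  ModuleCat.extendScalars.{u, u, u} φ ⋙ curriedTensor (ModuleCat.{u} A)

instance preservesZero_ext₂_obj (q : ModuleCat.{u} R) :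
    ((ext₂ φ).obj q).PreservesZeroMorphisms :=
  inferInstanceAs ((curriedTensor (ModuleCat.{u} A)).obj
    ((ModuleCat.extendScalars.{u, u, u} φ).obj q)).PreservesZeroMorphisms

/-- `q ⊗_R p ≅ (A ⊗_R q) ⊗_A p`. -/
noncomputable def cmp (q : ModuleCat.{u} R) (p : ModuleCat.{u} A) :
    q ⊗ (ModuleCat.restrictScalars φ).obj p ≅
      (ModuleCat.restrictScalars φ).obj (((ext₂ φ).obj q).obj p) :=
  β_ q _ ≪≫ asIso (projHom φ p q) ≪≫ (ModuleCat.restrictScalars φ).mapIso (β_ p _)

theorem cmp_natural_left {q q' : ModuleCat.{u} R} (f : q ⟶ q') (p : ModuleCat.{u} A) :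
    f ▷ (ModuleCat.restrictScalars φ).obj p ≫ (cmp φ q' p).hom =
      (cmp φ q p).hom ≫ (ModuleCat.restrictScalars φ).map (((ext₂ φ).map f).app p) := by
  simp only [cmp, Iso.trans_hom, asIso_hom, Functor.mapIso_hom, Category.assoc]
  rw [BraidedCategory.braiding_naturality_left_assoc]
  refine congrArg (_ ≫ ·) (((reassoc_of% (KFlatLib.projHom_natural_right φ p f)) _).trans ?_)
  rw [← Functor.map_comp, ← Functor.map_comp]
  congr 2
  exact BraidedCategory.braiding_naturality_right p _

theorem cmp_natural_right (q : ModuleCat.{u} R) {p p' : ModuleCat.{u} A} (g : p ⟶ p') :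
    q ◁ (ModuleCat.restrictScalars φ).map g ≫ (cmp φ q p').hom =
      (cmp φ q p).hom ≫ (ModuleCat.restrictScalars φ).map (((ext₂ φ).obj q).map g) := by
  simp only [cmp, Iso.trans_hom, asIso_hom, Functor.mapIso_hom, Category.assoc]
  rw [BraidedCategory.braiding_naturality_right_assoc]
  rw [reassoc_of% (KFlatLib.projHom_natural_left φ g q), ← Functor.map_comp, ← Functor.map_comp]
  congr 3
  exact BraidedCategory.braiding_naturality_left g _

/-- Finite tor amplitude over the base bounds tensor products with extended resolutions. -/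
theorem isZero_homology_tensor_ext {a b : ℤ} {C : CochainComplex (ModuleCat.{u} A) ℤ}
    (hC : DRing.HasTorAmplitudeIn R a b
      (DRing.toD (((ModuleCat.restrictScalars φ).mapHomologicalComplex (ComplexShape.up ℤ)).obj C)))
    {P : CochainComplex (ModuleCat.{u} R) ℤ} (hP : DRing.IsKFlat R P) (q : P ⟶ M₀ N) [QuasiIso q]
    (i : ℤ) (hi : i < a ∨ b < i) :
    IsZero ((tT C (((ModuleCat.extendScalars.{u, u, u} φ).mapHomologicalComplex
      (ComplexShape.up ℤ)).obj P)).homology i) := by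
  let rs := ModuleCat.restrictScalars φ
  have h₁ := KFlatLib.totalMapIso (ext₂ φ) (curriedTensor (ModuleCat.{u} R)) (𝟭 _) rs rs
    (fun a b => cmp φ a b) (fun f b => cmp_natural_left φ f b)
    (fun a {_ _} g => cmp_natural_right φ a g) P C
  have h₂ := KFlatLib.totalMapIso (ext₂ φ) (curriedTensor (ModuleCat.{u} A))
    (ModuleCat.extendScalars.{u, u, u} φ) (𝟭 _) (𝟭 _) (fun _ _ => Iso.refl _)
    (fun _ _ => (Category.comp_id _).trans (Category.id_comp _).symm)
    (fun _ {_ _} _ => (Category.comp_id _).trans (Category.id_comp _).symm) P C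
  have z : IsZero ((mapBifunctor P C (ext₂ φ) (ComplexShape.up ℤ)).homology i) := by
    have z₁ := (isZero_homology_tensor_of_torAmplitude hC hP q i hi).of_iso
      ((homologyFunctor _ _ i).mapIso h₁).symm
    have z₂ : IsZero (rs.obj ((mapBifunctor P C (ext₂ φ) (ComplexShape.up ℤ)).homology i)) :=
      z₁.of_iso ((((mapBifunctor P C (ext₂ φ) (ComplexShape.up ℤ)).sc i).mapHomologyIso rs).symm)
    have z₃ := ModuleCat.isZero_iff_subsingleton.1 z₂
    exact ModuleCat.isZero_iff_subsingleton.2 z₃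
  exact (z.of_iso ((homologyFunctor _ _ i).mapIso h₂)).of_iso
    ((homologyFunctor _ _ i).mapIso (KFlatLib.tensorFlipIso C
      (((ModuleCat.extendScalars.{u, u, u} φ).mapHomologicalComplex (ComplexShape.up ℤ)).obj P))).symm

end Ext

end PerfBaseLib
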