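import Groth.Agent.PerfBaseLib.Supp
import Groth.Agent.PerfBaseLib.TensorAlg
import Groth.Agent.ProjFormLib.QCohMain
import Groth.Agent.KFlatLib.QCohTensor
import Groth.Agent.KFlatLib.TorQCoh
import Groth.Agent.KFlatLib.QCohLpull
import Groth.Agent.KFlatLib.PerfectCrit
import Groth.Agent.KFlatLib.TorAmpMore
import Groth.Agent.KFlatLib.LpullTensor
import Groth.Agent.PerfNoethLib.PCCoh
import Groth.Prelude.Def_DerSch

/-!
# Tor amplitude of derived direct images
-/

set_option autoImplicit false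
set_option backward.isDefEq.respectTransparency false
set_option backward.isDefEq.respectTransparency.types false
set_option maxHeartbeats 1000000
set_option linter.style.haveILetI false

universe u

open CategoryTheory CategoryTheory.Limits AlgebraicGeometry MonoidalCategory HomologicalComplex
open Groth.Agent
open DerivedCategory.TStructure (t)

attribute [local instance] HasDerivedCategory.standard

namespace PerfBaseLib

variable {X S : Scheme.{u}}

theorem isQCohD_inD (G : X.Modules) (hG : Coh.IsQCoh G) :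
    DCoh.IsQCohD ((DerivedCategory.singleFunctor X.Modules 0).obj G) := fun i => by
  rcases lt_trichotomy i 0 with h | rfl | h
  · exact KFlatLib.isQCoh_zero (DerivedCategory.isZero_of_isGE _ 0 i h)
  · exact @QCohLib.isQCoh_of_iso _ _ _
      ((DerivedCategory.singleFunctorCompHomologyFunctorIso X.Modules 0).app G).symm hG
  · exact KFlatLib.isQCoh_zero (DerivedCategory.isZero_of_isLE _ 0 i h)

/-- The stalk of a module in degree zero. -/
noncomputable def stalkSingleIso (x : X) (G : X.Modules) :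
    (KFlatLib.stalkCx X x).obj ((CochainComplex.singleFunctor X.Modules 0).obj G) ≅
      M₀ ((DerSch.stalkFunctor X x).obj G) :=
  (singleMapHomologicalComplex (DerSch.stalkFunctor X x) (ComplexShape.up ℤ) 0).app G

/-- The tensor product with a pulled back resolution has bounded cohomology. -/
theorem isZero_homology_tensor_pull (f : X ⟶ S) {a b : ℤ} (T : CochainComplex X.Modules ℤ)
    (htor : DerSch.HasTorAmplitude f a b T) {G : S.Modules} {P : CochainComplex S.Modules ℤ}
    (hP : DCoh.IsKFlat P) (q : P ⟶ (CochainComplex.singleFunctor S.Modules 0).obj G) [QuasiIso q]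
    (i : ℤ) (hi : i < a ∨ b < i) :
    IsZero ((((DCoh.tensorCx (X := X)).obj T).obj ((KFlatLib.pullCx f).obj P)).homology i) := by
  rw [KFlatLib.isZero_homology_iff]
  intro x
  haveI : QuasiIso ((KFlatLib.stalkCx S (f x)).map q) := (KFlatLib.quasiIso_iff_stalks q).1 ‹_› (f x)
  refine IsZero.of_iso ?_ ((homologyFunctor _ _ i).mapIso
    (KFlatLib.stalkTensorCxIso x T ((KFlatLib.pullCx f).obj P)).symm)
  refine IsZero.of_iso ?_ ((homologyFunctor _ _ i).mapIso
    (whiskerLeftIso ((KFlatLib.stalkCx X x).obj T) (KFlatLib.stalkPullCxIso f x P)))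
  exact isZero_homology_tensor_ext (N := (DerSch.stalkFunctor S (f x)).obj G) (f.stalkMap x).hom
    (C := (KFlatLib.stalkCx X x).obj T) (htor x) (KFlatLib.stalks_isKFlat hP (f x))
    ((KFlatLib.stalkCx S (f x)).map q ≫ (stalkSingleIso (f x) G).hom) i hi

/-- Vanishing for a resolved module gives vanishing of the derived tensor product. -/
theorem isZero_HD_lTensorMod (G : S.Modules) [DCoh.HasLTensorMod G] {P : CochainComplex S.Modules ℤ}
    (hP : DCoh.IsKFlat P) (q : P ⟶ (CochainComplex.singleFunctor S.Modules 0).obj G) [QuasiIso q]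
    [DCoh.HasLTensorCx P] (K : DCoh.D S) (i : ℤ)
    (h : IsZero (DCoh.HD ((DCoh.LTensorCx P).obj K) i)) :
    IsZero (DCoh.HD ((DCoh.LTensorMod G).obj K) i) := by
  obtain ⟨A, hA, ⟨e⟩⟩ := KFlatLib.exists_good_rep K
  rw [KFlatLib.isZero_HD_lTensor_iff G hA.1 e i]
  haveI := TensorAssocLib.isIso_cnt P hP A
  have hz : IsZero ((((DCoh.tensorCx (X := S)).obj A).obj P).homology i) :=
    (KFlatLib.isZero_HD_iff (((asIso ((TensorAssocLib.cnt P).app A)).symm ≪≫
      (DCoh.LTensorCx P).mapIso e)) i).1 h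
  intro x
  haveI : QuasiIso ((KFlatLib.stalkCx S x).map q) := (KFlatLib.quasiIso_iff_stalks q).1 ‹_› x
  let q' := (KFlatLib.stalkCx S x).map q ≫ (stalkSingleIso x G).hom
  haveI : QuasiIso (KFlatLib.tMap (𝟙 ((KFlatLib.stalkCx S x).obj A)) q') :=
    KFlatLib.quasiIso_tMap_left (KFlatLib.stalks_isKFlat hA.1 x) q'
  refine (((KFlatLib.isZero_homology_iff _ i).1 hz x).of_iso
    ((homologyFunctor _ _ i).mapIso (KFlatLib.stalkTensorCxIso x A P))).of_iso ?_
  exact ((homologyFunctor _ _ i).mapIso (tensorSingleIso _ _)).symm ≪≫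
    (asIso (homologyMap (KFlatLib.tMap (𝟙 ((KFlatLib.stalkCx S x).obj A)) q') i)).symm

/-- The tensor condition. -/
def TensorBounded (f : X ⟶ S) (a b : ℤ) (T : CochainComplex X.Modules ℤ) : Prop :=
  ∀ (G : S.Modules), Coh.IsQCoh G → ∀ (P : CochainComplex S.Modules ℤ), DCoh.IsKFlat P →
    ∀ (q : P ⟶ (CochainComplex.singleFunctor S.Modules 0).obj G), QuasiIso q →
      ∀ i : ℤ, (i < a ∨ b < i) →
        IsZero ((((DCoh.tensorCx (X := X)).obj T).obj ((KFlatLib.pullCx f).obj P)).homology i)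

theorem tensorBounded_of_tor (f : X ⟶ S) {a b : ℤ} (T : CochainComplex X.Modules ℤ)
    (htor : DerSch.HasTorAmplitude f a b T) : TensorBounded f a b T :=
  fun _ _ _ hP q hq i hi => haveI := hq; isZero_homology_tensor_pull f T htor hP q i hi

/-- Restriction to an open keeps the tensor condition. -/
theorem TensorBounded.restrict {f : X ⟶ S} {a b : ℤ} {T : CochainComplex X.Modules ℤ}
    (h : TensorBounded f a b T) (U : X.Opens) :
    TensorBounded (U.ι ≫ f) a b ((KFlatLib.pullCx U.ι).obj T) := by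
  intro G hG P hP q hq i hi
  refine IsZero.of_iso ?_ ((homologyFunctor _ _ i).mapIso
    (((DCoh.tensorCx (X := (U : Scheme.{u}))).obj ((KFlatLib.pullCx U.ι).obj T)).mapIso
      ((NatIso.mapHomologicalComplex (Scheme.Modules.pullbackComp U.ι f) (ComplexShape.up ℤ)).app P).symm
      ≪≫ KFlatLib.pullTensorCxIso U.ι T ((KFlatLib.pullCx f).obj P)))
  let M := ((DCoh.tensorCx (X := X)).obj T).obj ((KFlatLib.pullCx f).obj P)
  haveI : PreservesFiniteLimits (Scheme.Modules.pullback U.ι) :=
    preservesFiniteLimits_of_natIso (Scheme.Modules.restrictFunctorIsoPullback U.ι)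
  haveI : (Scheme.Modules.pullback U.ι).PreservesHomology := inferInstance
  exact ((Scheme.Modules.pullback U.ι).map_isZero (h G hG P hP q hq i hi)).of_iso
    ((M.sc i).mapHomologyIso (Scheme.Modules.pullback U.ι))

/-- Bounded tensor products give bounded tor amplitude of the direct image. -/
theorem exists_torAmplitude_rpush (g : X ⟶ S) [QuasiCompact g] [QuasiSeparated g]
    [QuasiSeparatedSpace ↥S] [CompactSpace ↥S] [DCoh.HasRpush g] {a b : ℤ}
    (T : CochainComplex X.Modules ℤ) (hT : DCoh.IsQCohD (DCoh.toD X T)) (h : TensorBounded g a b T) :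
    ∃ c : ℤ, DCoh.HasTorAmplitudeIn a c ((DCoh.Rpush g).obj (DCoh.toD X T)) := by
  obtain ⟨N, hN⟩ := QRlimLib.exists_uniform_bound g
  refine ⟨b + N - 1, KFlatLib.torAmplitude_of_qcoh _ _ _ fun G hG _ i hi => ?_⟩
  let P := (KFlatLib.resP S).obj ((CochainComplex.singleFunctor S.Modules 0).obj G)
  let q := (KFlatLib.resψ S).app ((CochainComplex.singleFunctor S.Modules 0).obj G)
  haveI hq : QuasiIso q := KFlatLib.quasiIso_resψ _
  have hP : DCoh.IsKFlat P := (KFlatLib.good_resP _).1
  have hPq : DCoh.IsQCohD (DerivedCategory.Q.obj P) := by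
    refine KFlatLib.isQCohD_iso (asIso (DerivedCategory.Q.map q) ≪≫
      ((DerivedCategory.singleFunctorIsoCompQ S.Modules 0).app G).symm).symm ?_
    exact isQCohD_inD G hG
  haveI := KFlatLib.hasLTensorCx P
  haveI := KFlatLib.hasLTensorCx ((KFlatLib.pullCx g).obj P)
  refine isZero_HD_lTensorMod G hP q _ i ?_
  obtain ⟨e⟩ := ProjFormLib.nonempty_projection_qcoh g P hP hPq (DCoh.toD X T) hT
  haveI := TensorAssocLib.isIso_cnt ((KFlatLib.pullCx g).obj P) (KFlatLib.isKFlat_pull g hP) T
  let Z := ((DCoh.tensorCx (X := X)).obj T).obj ((KFlatLib.pullCx g).obj P)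
  let eZ : (DCoh.LTensorCx ((KFlatLib.pullCx g).obj P)).obj (DCoh.toD X T) ≅ DCoh.toD X Z :=
    asIso ((TensorAssocLib.cnt ((KFlatLib.pullCx g).obj P)).app T)
  haveI := KFlatLib.hasLpull g
  have hZq : DCoh.IsQCohD (DCoh.toD X Z) := KFlatLib.isQCohD_iso eZ
    (KFlatLib.isQCohD_lTensorCx _ (KFlatLib.isQCohD_iso (KFlatLib.lpullObjIso g P hP)
      (KFlatLib.isQCohD_lpull g _ hPq)) _ hT)
  have hz := fun j hj => (KFlatLib.isZero_HD_iff (Iso.refl (DCoh.toD X Z)) j).2 (h G hG P hP q hq j hj)
  haveI : (DCoh.toD X Z).IsGE a :=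
    (DerivedCategory.isGE_iff _ a).2 fun j hj => hz j (Or.inl hj)
  haveI : (DCoh.toD X Z).IsLE b :=
    (DerivedCategory.isLE_iff _ b).2 fun j hj => hz j (Or.inr hj)
  refine IsZero.of_iso ?_ ((DerivedCategory.homologyFunctor S.Modules i).mapIso
    (e ≪≫ (DCoh.Rpush g).mapIso eZ))
  rcases hi with hi | hi
  · haveI := QRlimLib.rpush_isGE g (DCoh.toD X Z) a
    exact DerivedCategory.isZero_of_isGE _ a i hi
  · exact hN _ hZq b inferInstance i (by omega)

/-- A coherent bounded object of finite tor amplitude is perfect. -/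
theorem isPerfect_of_coh_of_torAmplitude [IsNoetherian S] (K : DCoh.D S) (hK : DCoh.IsCohD K)
    {a c : ℤ} (h : DCoh.HasTorAmplitudeIn a c K) : DCoh.IsPerfect K := by
  have h' : DCoh.HasTorAmplitudeIn a (max a c) K := fun F _ i hi =>
    h F i (hi.imp id fun h => lt_of_le_of_lt (le_max_right a c) h)
  haveI : K.IsLE (max a c) := (DerivedCategory.isLE_iff _ _).2 fun i hi =>
    KFlatLib.isZero_HD_of_torAmplitude h' (Or.inr hi)
  exact KFlatLib.isPerfect_of_flatAmplitude_of_pcoh K a (max a c)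
    (KFlatLib.flatAmplitude_of_torAmplitude (le_max_left a c) h')
    (PerfNoethLib.isPC_of_coherent (fun i _ => hK i) (b := max a c))

/-- Derived direct images of relatively perfect objects with proper support are perfect. -/
theorem isPerfect_rpush [IsNoetherian S] (f : X ⟶ S) [LocallyOfFiniteType f] [DCoh.HasRpush f]
    (T : CochainComplex X.Modules ℤ) (hcoh : DCoh.IsCohD (DCoh.toD X T)) (a b : ℤ)
    [(DCoh.toD X T).IsGE a] [(DCoh.toD X T).IsLE b]
    (hsupp : ∀ i : ℤ, ClSub.IsProperOver f (CohB1.support (DCoh.HD (DCoh.toD X T) i)))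
    {a' b' : ℤ} (h : TensorBounded f a' b' T) :
    DCoh.IsPerfect ((DCoh.Rpush f).obj (DCoh.toD X T)) := by
  have hc := isCohD_rpush f (DCoh.toD X T) a fun i => ⟨hcoh i, hsupp i⟩
  have hT : ClSub.IsProperOver f (⋃ i : Finset.Icc a b, CohB1.support (DCoh.HD (DCoh.toD X T) i.1)) :=
    ProperOverLib.iUnion fun i => hsupp i.1
  obtain ⟨U, hR, -, hqc, hqs, ⟨e⟩⟩ := exists_qc_reduction f (DCoh.toD X T) hT fun i => by
    by_cases hi : i ∈ Finset.Icc a b
    · exact Set.subset_iUnion_of_subset ⟨i, hi⟩ subset_rfl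
    · rw [Finset.mem_Icc, not_and_or, not_le, not_le] at hi
      rw [DevissLib.support_of_isZero (hi.elim (fun h => DerivedCategory.isZero_of_isGE _ a i h)
        (fun h => DerivedCategory.isZero_of_isLE _ b i h))]
      exact Set.empty_subset _
  haveI := hR
  haveI := hqc
  haveI := hqs
  let eU : (DCoh.restrictD U.ι).obj (DCoh.toD X T) ≅
      DCoh.toD _ ((KFlatLib.pullCx U.ι).obj T) :=
    ((Scheme.Modules.restrictFunctor U.ι).mapDerivedCategoryFactors).app T ≪≫
      DerivedCategory.Q.mapIso ((KFlatLib.restrictCxIso U).app T)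
  obtain ⟨c, hc'⟩ := exists_torAmplitude_rpush (U.ι ≫ f) ((KFlatLib.pullCx U.ι).obj T)
    (KFlatLib.isQCohD_iso eU (Groth.Agent.PerfDualLib.isQCohD_restrictD (fun i => (hcoh i).1) U))
    (h.restrict U)
  let e' := e ≪≫ (DCoh.Rpush (U.ι ≫ f)).mapIso eU
  exact Groth.Agent.PerfLib.isPerfect_of_iso e'.symm (isPerfect_of_coh_of_torAmplitude _
    (fun i => QCohLib.isCoh_of_iso ((DerivedCategory.homologyFunctor S.Modules i).mapIso e') (hc i)) hc')

end PerfBaseLib
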