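import Groth.Agent.S0795
import Groth.Agent.S0999
import Groth.Agent.DerLib.WeakSerreTri
import Groth.Agent.DCohRestrLib.Support
import Groth.Agent.KHeartLib.CohSupp
import Groth.Agent.PerfDualLib.Props
import Groth.Agent.QRlimLib.Vanishing
import Groth.Agent.ProperOverLib.Basic
import Groth.Agent.KFlatLib.LpullAdj
import Groth.Agent.KFlatLib.PullKFlat

/-!
# Derived direct images of coherent objects with proper support
-/

set_option autoImplicit false
set_option backward.isDefEq.respectTransparency false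
set_option backward.isDefEq.respectTransparency.types false
set_option linter.style.haveILetI false

universe u

open CategoryTheory CategoryTheory.Limits AlgebraicGeometry TopologicalSpace Pretriangulated
open DerivedCategory.TStructure (t)

attribute [local instance] HasDerivedCategory.standard

namespace PerfBaseLib

variable {X S : Scheme.{u}} (f : X ⟶ S)

/-- Coherent modules with support proper over the base. -/
abbrev psProp : ObjectProperty X.Modules :=
  fun M => Coh.IsCoh M ∧ ClSub.IsProperOver f (CohB1.support M)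

theorem isProperOver_of_subset [LocallyOfFiniteType f] {T T' : Set X} (hT : IsClosed T) (hTT' : T ⊆ T')
    (h : ClSub.IsProperOver f T') : ClSub.IsProperOver f T := by
  obtain ⟨U, j, hj, hr, hp⟩ := ProperOverLib.exists_closedImmersion h
  exact ProperOverLib.of_map j f T hT (hr.symm ▸ hTT')

variable [LocallyOfFiniteType f] [IsLocallyNoetherian S]

theorem psProp_of_subset {M : X.Modules} (hM : Coh.IsCoh M) {T : Set X} (hT : ClSub.IsProperOver f T)
    (h : CohB1.support M ⊆ T) : psProp f M :=
  ⟨hM, isProperOver_of_subset f (QCohLib.isClosed_support _ hM.2) h hT⟩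

theorem isWeakSerre_psProp : WSerre.IsWeakSerre (psProp f) := by
  haveI : IsLocallyNoetherian X := LocallyOfFiniteType.isLocallyNoetherian f
  exact
  { exists_zero := ⟨_, Limits.isZero_zero _, DevissLib.isCoh_of_isZero (Limits.isZero_zero _),
      (DevissLib.support_of_isZero (Limits.isZero_zero _)).symm ▸ ProperOverLib.empty f⟩
    kernels_le := by
      rintro _ ⟨g, k, hk, hg⟩
      have e : k.pt ≅ kernel g := hk.conePointUniqueUpToIso (limit.isLimit _)
      exact psProp_of_subset f (QCohLib.isCoh_of_iso e.symm (QCohLib.isCoh_kernel g hg.1.1 hg.2.1.1))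
        hg.1.2 ((DevissLib.support_iso e).le.trans (DevissLib.support_mono (kernel.ι g)))
    cokernels_le := by
      rintro _ ⟨g, k, hk, hg⟩
      have e : k.pt ≅ cokernel g := hk.coconePointUniqueUpToIso (colimit.isColimit _)
      exact psProp_of_subset f (QCohLib.isCoh_of_iso e.symm (QCohLib.isCoh_cokernel g hg.1.1.1 hg.2.1))
        hg.2.2 ((DevissLib.support_iso e).le.trans (DevissLib.support_epi (cokernel.π g)))
    prop_X₂_of_shortExact := fun hS h₁ h₃ => psProp_of_subset f
      (Groth.Agent.KHeartLib.isCoh_of_shortExact hS h₁.1 h₃.1) (ProperOverLib.union h₁.2 h₃.2)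
      (Groth.Agent.KHeartLib.support_X₂_subset hS) }

variable [DCoh.HasRpush f]

/-- A coherent module with proper support has coherent derived direct image. -/
theorem isCohD_rpush_single (M : X.Modules) (hM : psProp f M) :
    DCoh.IsCohD ((DCoh.Rpush f).obj ((DerivedCategory.singleFunctor X.Modules 0).obj M)) := by
  haveI : EnoughInjectives X.Modules := IsGrothendieckAbelian.enoughInjectives.{u}
  let R := injectiveResolution M
  haveI : R.cochainComplex.IsKInjective := CochainComplex.isKInjective_of_injective _ 0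
  obtain ⟨eP⟩ := QRlimLib.nonempty_pushIso f R.cochainComplex
  let e := (DCoh.Rpush f).mapIso (((DerivedCategory.singleFunctorIsoCompQ X.Modules 0).app M) ≪≫
    asIso (DerivedCategory.Q.map R.ι')) ≪≫ eP
  intro q
  refine QCohLib.isCoh_of_iso (((DerivedCategory.homologyFunctor S.Modules q).mapIso e ≪≫
    (DerivedCategory.homologyFunctorFactors S.Modules q).app _).symm) ?_
  by_cases hq : 0 ≤ q
  · obtain ⟨k, rfl⟩ := Int.eq_ofNat_of_zero_le hq
    exact QCohLib.isCoh_of_iso
      ((HomologicalComplex.homologyFunctor S.Modules (ComplexShape.up ℤ) (k : ℤ)).mapIso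
        (SpSeqLib.mapExtendNatIso (Scheme.Modules.pushforward f) R.cocomplex) ≪≫
      HomologicalComplex.extendHomologyIso _ ComplexShape.embeddingUpNat (j := k) (by simp) ≪≫
      (R.isoRightDerivedObj (Scheme.Modules.pushforward f) k).symm).symm
      (Groth.Agent.S0795.result f M hM.1 hM.2 k)
  · refine DevissLib.isCoh_of_isZero (HomologicalComplex.ExactAt.isZero_homology ?_)
    exact (HomologicalComplex.exactAt_iff _ q).2 (ShortComplex.exact_of_isZero_X₂ _
      ((Scheme.Modules.pushforward f).map_isZero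
        (R.cochainComplex.isZero_of_isStrictlyGE 0 q (by omega))))

/-- Bounded below objects. -/
theorem isCohD_rpush (E : DCoh.D X) (a : ℤ) [E.IsGE a]
    (hE : ∀ i, psProp f (DCoh.HD E i)) : DCoh.IsCohD ((DCoh.Rpush f).obj E) := by
  haveI := isWeakSerre_psProp f
  haveI : WSerre.IsWeakSerre (fun M : S.Modules => Coh.IsCoh M) :=
    Groth.Agent.KHeartLib.isWeakSerre_isCoh
  obtain ⟨_, _⟩ := Groth.Agent.DerLib.KInjDerived.exists_isTriangulated_map KFlatLib.enoughKInj_modules
    (Scheme.Modules.pushforward f) (DCoh.Rpush f)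
    ((DCoh.pushKh f).totalRightDerivedUnit DerivedCategory.Qh
      (HomotopyCategory.quasiIso X.Modules (ComplexShape.up ℤ)))
  have hΦ : Groth.Agent.DerLib.Devissage.LeftBound (DCoh.Rpush f) 0 := fun K n i hK hi => by
    haveI : EnoughInjectives X.Modules := IsGrothendieckAbelian.enoughInjectives.{u}
    exact Groth.Agent.DerLib.Amplitude.leftBound_rightDerived (Scheme.Modules.pushforward f)
      (DCoh.Rpush f) ((DCoh.pushKh f).totalRightDerivedUnit DerivedCategory.Qh
        (HomotopyCategory.quasiIso X.Modules (ComplexShape.up ℤ))) KFlatLib.enoughKInj_modules K n i hK hi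
  exact Groth.Agent.DerLib.WeakSerreTri.cohIn_of_isGE (psProp f) (fun M : S.Modules => Coh.IsCoh M)
    (DCoh.Rpush f) hΦ (fun M hM => isCohD_rpush_single f M hM) E a hE

omit [DCoh.HasRpush f] in
/-- A closed subset proper over a Noetherian base lies in a quasi-compact open. -/
theorem exists_qc_open [CompactSpace ↥S] {T : Set X} (hT : ClSub.IsProperOver f T) :
    ∃ U : X.Opens, T ⊆ U ∧ IsCompact (U : Set X) := by
  obtain ⟨Z, i, hi, hr, hp⟩ := ProperOverLib.exists_closedImmersion hT
  haveI : CompactSpace ↥Z := QuasiCompact.compactSpace_of_compactSpace (i ≫ f)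
  have hc : IsCompact T := hr ▸ isCompact_range i.continuous
  obtain ⟨s, hs⟩ := hc.elim_finite_subcover (fun U : X.affineOpens => (U.1 : Set X)) (fun U => U.1.2)
    (fun x _ => by
      obtain ⟨U, hU, hx⟩ := QCohLib.exists_affine_nhd x
      exact Set.mem_iUnion.2 ⟨⟨U, hU⟩, hx⟩)
  refine ⟨⨆ U ∈ s, U.1, fun x hx => ?_, ?_⟩
  · obtain ⟨U, hU, hxU⟩ := Set.mem_iUnion₂.1 (hs hx)
    exact Opens.mem_iSup.2 ⟨U, Opens.mem_iSup.2 ⟨hU, hxU⟩⟩
  · simp only [Opens.coe_iSup]
    exact s.finite_toSet.isCompact_biUnion fun U _ => U.2.isCompact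

/-- Reduction to a quasi-compact open. -/
theorem exists_qc_reduction [CompactSpace ↥S] (E : DCoh.D X) {T : Set X} (hT : ClSub.IsProperOver f T)
    (hE : ∀ i, CohB1.support (DCoh.HD E i) ⊆ T) :
    ∃ (U : X.Opens) (_ : DCoh.HasRpush (U.ι ≫ f)), T ⊆ U ∧ QuasiCompact (U.ι ≫ f) ∧
      QuasiSeparated (U.ι ≫ f) ∧ Nonempty ((DCoh.Rpush f).obj E ≅
        (DCoh.Rpush (U.ι ≫ f)).obj ((DCoh.restrictD U.ι).obj E)) := by
  haveI : IsNoetherian S := {}
  haveI : IsLocallyNoetherian X := LocallyOfFiniteType.isLocallyNoetherian f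
  obtain ⟨U, hTU, hU⟩ := exists_qc_open f hT
  haveI : CompactSpace ↥(U : Scheme.{u}) := isCompact_iff_compactSpace.1 hU
  haveI : IsNoetherian (U : Scheme.{u}) := {}
  haveI := Groth.Agent.DCohRestrLib.hasRpush U.ι
  haveI := Groth.Agent.DCohRestrLib.hasRpush (U.ι ≫ f)
  haveI := KFlatLib.hasLpull f
  haveI := KFlatLib.hasLpull U.ι
  haveI := KFlatLib.hasLpull (U.ι ≫ f)
  obtain ⟨e⟩ := Groth.Agent.DCohRestrLib.nonempty_iso_Rpush_restrict U T hT.1 hTU E hE
  obtain ⟨c⟩ := KFlatLib.rpush_comp U.ι f
  exact ⟨U, inferInstance, hTU, inferInstance, inferInstance,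
    ⟨(DCoh.Rpush f).mapIso e ≪≫ c.app _⟩⟩

/-- Direct images of bounded objects with proper support are bounded above. -/
theorem exists_isLE_rpush [CompactSpace ↥S] (E : DCoh.D X) {T : Set X} (hT : ClSub.IsProperOver f T)
    (hE : ∀ i, CohB1.support (DCoh.HD E i) ⊆ T) (hq : DCoh.IsQCohD E) (b : ℤ) [E.IsLE b] :
    ∃ b' : ℤ, ((DCoh.Rpush f).obj E).IsLE b' := by
  obtain ⟨U, _, -, _, _, ⟨e⟩⟩ := exists_qc_reduction f E hT hE
  obtain ⟨N, hN⟩ := QRlimLib.exists_uniform_bound (U.ι ≫ f)
  have hq' := Groth.Agent.PerfDualLib.isQCohD_restrictD hq U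
  haveI : ((DCoh.restrictD U.ι).obj E).IsLE b := by
    rw [DerivedCategory.isLE_iff]
    intro i hi
    exact (Functor.map_isZero _ (DerivedCategory.isZero_of_isLE E b i hi)).of_iso
      (Groth.Agent.DCohRestrLib.restrictHDIso U.ι E i)
  refine ⟨b + N, ?_⟩
  rw [DerivedCategory.isLE_iff]
  intro i hi
  exact (hN _ hq' b inferInstance i (by omega)).of_iso
    ((DerivedCategory.homologyFunctor S.Modules i).mapIso e)

end PerfBaseLib
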