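import Groth.Agent.PerfFibreLib.Split
import Mathlib.RingTheory.LocalRing.Module

/-!
# Splitting off a free rank one cohomology module
-/

set_option autoImplicit false
set_option backward.isDefEq.respectTransparency false
set_option backward.isDefEq.respectTransparency.types false
set_option linter.style.haveILetI false

universe u

open scoped TensorProduct

namespace PerfBaseLib

open Groth.Agent.PerfFibreLib

variable {A : Type u} [CommRing A]

/-- A map of free modules over a local ring with a faithful kernel element and one-dimensional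
fibre kernel has free cokernel. -/
theorem free_coker_of_local [IsLocalRing A] {N F : Type u} [AddCommGroup N] [Module A N] [Module.Free A N]
    [Module.Finite A N] [AddCommGroup F] [Module A F] [Module.Free A F] [Module.Finite A F]
    (d : N →ₗ[A] F) (v : N) (hdv : d v = 0) (hv : ∀ a : A, a • v = 0 → a = 0)
    (h : Module.finrank (IsLocalRing.ResidueField A)
      (LinearMap.ker (d.baseChange (IsLocalRing.ResidueField A))) ≤ 1) :
    Module.Free A (F ⧸ LinearMap.range d) := by
  classical
  let k := IsLocalRing.ResidueField A
  let b := Module.Free.chooseBasis A N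
  let bk := b.baseChange k
  let dk := d.baseChange k
  obtain ⟨z, hz, hz0⟩ : ∃ z, dk z = 0 ∧ z ≠ 0 := by
    by_contra hc
    push Not at hc
    have hinj : Function.Injective dk := (injective_iff_map_eq_zero dk).2 hc
    obtain ⟨ρ, hρ⟩ := (IsLocalRing.split_injective_iff_lTensor_residueField_injective d).2 hinj
    have hv0 : v = 0 := by
      have := LinearMap.congr_fun hρ v
      simpa [hdv] using this.symm
    exact one_ne_zero (hv 1 (by rw [one_smul, hv0]))
  obtain ⟨i, hi⟩ : ∃ i, bk.repr z i ≠ 0 := by
    by_contra hc
    push Not at hc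
    exact hz0 (bk.repr.map_eq_zero_iff.1 (Finsupp.ext hc))
  let π : N →ₗ[A] A := b.coord i
  have hπ : ∀ x : k ⊗[A] N, TensorProduct.AlgebraTensorModule.rid A k k (π.baseChange k x) = bk.repr x i := by
    intro x
    induction x using TensorProduct.induction_on with
    | zero => simp
    | add x y hx hy => simp [hx, hy]
    | tmul c n => simp [π, bk, Module.Basis.baseChange_repr_tmul, Algebra.smul_def, mul_comm]
  let Φ := d.prod π
  have hΦ : Function.Injective (Φ.baseChange k) := by
    refine (injective_iff_map_eq_zero _).2 fun x hx => ?_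
    have h1 : ∀ x : k ⊗[A] N, ((LinearMap.fst A F A).baseChange k) (Φ.baseChange k x) = dk x := fun x => by
      induction x using TensorProduct.induction_on with
      | zero => simp
      | add x y hx hy => simp [hx, hy]
      | tmul c n => simp [Φ, dk]
    have h2 : ∀ x : k ⊗[A] N, ((LinearMap.snd A F A).baseChange k) (Φ.baseChange k x) = π.baseChange k x :=
      fun x => by
      induction x using TensorProduct.induction_on with
      | zero => simp
      | add x y hx hy => simp [hx, hy]
      | tmul c n => simp [Φ]
    have hd : dk x = 0 := by rw [← h1, hx, map_zero]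
    have hr : bk.repr x i = 0 := by rw [← hπ, ← h2, hx, map_zero, map_zero]
    have hz' : (⟨z, hz⟩ : LinearMap.ker dk) ≠ 0 := fun e => hz0 congr($e.1)
    have hfin : Module.Finite k (LinearMap.ker dk) := inferInstance
    have hone : Module.finrank k (LinearMap.ker dk) = 1 := by
      refine le_antisymm h ((Module.finrank_pos_iff_exists_ne_zero (R := k) (M := LinearMap.ker dk)).2 ⟨⟨z, hz⟩, hz'⟩)
    obtain ⟨c, hc⟩ := exists_smul_eq_of_finrank_eq_one hone hz' (⟨x, hd⟩ : LinearMap.ker dk)
    have hc' : c • z = x := congr($hc.1)
    subst hc'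
    rw [map_smul, Finsupp.smul_apply, smul_eq_mul, mul_eq_zero, or_iff_left hi] at hr
    rw [hr, zero_smul]
  obtain ⟨ρ, hρ⟩ := (IsLocalRing.split_injective_iff_lTensor_residueField_injective Φ).2 hΦ
  let ρ₁ := ρ.comp (LinearMap.inl A F A)
  let e := ρ (0, 1)
  have hsum : ∀ x, ρ₁ (d x) + π x • e = x := fun x => by
    refine Eq.trans ?_ (LinearMap.congr_fun hρ x)
    simp [ρ₁, e, Φ, ← map_smul, ← map_add]
  have hve : v = π v • e := by
    conv_lhs => rw [← hsum v]
    rw [hdv, map_zero, zero_add]
  have hde : d e = 0 := by
    let bF := Module.Free.chooseBasis A F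
    refine bF.repr.map_eq_zero_iff.1 (Finsupp.ext fun j => hv _ ?_)
    have h0 : π v * bF.repr (d e) j = 0 := by
      rw [← smul_eq_mul, ← Finsupp.smul_apply, ← map_smul, ← map_smul, ← hve, hdv, map_zero,
        Finsupp.zero_apply]
    rw [hve, smul_smul, mul_comm, h0, zero_smul]
  have hdd : ∀ x, d (ρ₁ (d x)) = d x := fun x => by
    conv_rhs => rw [← hsum x, map_add, map_smul, hde, smul_zero, add_zero]
  let s : (F ⧸ LinearMap.range d) →ₗ[A] F := (LinearMap.range d).liftQ (LinearMap.id - d.comp ρ₁) (by
    rintro _ ⟨x, rfl⟩
    simp [hdd])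
  haveI : Module.Projective A (F ⧸ LinearMap.range d) := Module.Projective.of_split s (LinearMap.range d).mkQ (by
    ext y
    simp [s, Submodule.Quotient.mk_sub])
  exact Module.free_of_flat_of_isLocalRing

/-- The global version. -/
theorem projective_coker_of_unit {N F : Type u} [AddCommGroup N] [Module A N] [Module.Projective A N]
    [Module.Finite A N] [AddCommGroup F] [Module A F] [Module.Free A F] [Module.Finite A F]
    (d : N →ₗ[A] F) (v : N) (hdv : d v = 0) (hv : ∀ a : A, a • v = 0 → a = 0)
    (h : ∀ p : PrimeSpectrum A, Module.finrank p.asIdeal.ResidueField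
      (LinearMap.ker (d.baseChange p.asIdeal.ResidueField)) ≤ 1) :
    Module.Projective A (F ⧸ LinearMap.range d) := by
  haveI : Module.FinitePresentation A F := Module.finitePresentation_of_projective A F
  haveI : Module.FinitePresentation A (F ⧸ LinearMap.range d) :=
    Module.finitePresentation_of_surjective (LinearMap.range d).mkQ (Submodule.mkQ_surjective _)
      (by rw [Submodule.ker_mkQ, LinearMap.range_eq_map]; exact Module.Finite.fg_top.map d)
  rw [← Module.freeLocus_eq_univ_iff, Set.eq_univ_iff_forall]
  intro p
  let Ap := Localization.AtPrime p.asIdeal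
  let k := p.asIdeal.ResidueField
  rw [Module.mem_freeLocus_iff_tensor p Ap]
  let dA := d.baseChange Ap
  haveI : Module.Free Ap (Ap ⊗[A] N) := Module.free_of_flat_of_isLocalRing
  have hvA : ∀ a : Ap, a • ((1 : Ap) ⊗ₜ[A] v) = 0 → a = 0 := fun a ha => by
    have hinj := Module.Flat.lTensor_preserves_injective_linearMap (M := Ap) (LinearMap.toSpanSingleton A N v)
      ((injective_iff_map_eq_zero _).2 hv)
    rw [TensorProduct.smul_tmul', smul_eq_mul, mul_one] at ha
    have h1 : (a ⊗ₜ[A] (1 : A) : Ap ⊗[A] A) = 0 := hinj (by simpa using ha)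
    simpa using congrArg (TensorProduct.rid A Ap) h1
  let cN := TensorProduct.AlgebraTensorModule.cancelBaseChange A Ap k k N
  let cF := TensorProduct.AlgebraTensorModule.cancelBaseChange A Ap k k F
  have key : ∀ z : k ⊗[Ap] (Ap ⊗[A] N), cF (dA.baseChange k z) = d.baseChange k (cN z) := by
    intro z
    induction z using TensorProduct.induction_on with
    | zero => simp
    | add x y hx hy => simp [hx, hy]
    | tmul c w =>
      induction w using TensorProduct.induction_on with
      | zero => simp
      | add x y hx hy => rw [TensorProduct.tmul_add, map_add, map_add, map_add, map_add, hx, hy]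
      | tmul a m => simp [cN, cF, dA]
  have hker : (LinearMap.ker (dA.baseChange k)).map (cN : _ →ₗ[k] _) = LinearMap.ker (d.baseChange k) := by
    ext y
    constructor
    · rintro ⟨z, hz, rfl⟩
      exact (key z).symm.trans (by rw [LinearMap.mem_ker.1 hz, map_zero])
    · intro hy
      refine ⟨cN.symm y, cF.injective ?_, cN.apply_symm_apply y⟩
      rw [key, cN.apply_symm_apply, LinearMap.mem_ker.1 hy, map_zero]
  have hloc := free_coker_of_local dA ((1 : Ap) ⊗ₜ[A] v) (by simp [dA, hdv]) hvA (by
    refine le_of_eq_of_le ?_ (h p)
    exact (LinearEquiv.submoduleMap cN _).finrank_eq.trans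
      (LinearEquiv.ofEq _ _ hker).finrank_eq)
  have hex : Function.Exact dA ((LinearMap.range d).mkQ.baseChange Ap) :=
    lTensor_exact Ap (LinearMap.exact_map_mkQ_range d) (Submodule.mkQ_surjective _)
  exact Module.Free.of_equiv (hex.linearEquivOfSurjective
    (LinearMap.lTensor_surjective Ap (Submodule.mkQ_surjective _)))

/-- The fibre kernel of the induced differential has dimension the fibre cohomology. -/
theorem finrank_ker_dbar (M : MCx A) (r : ℤ → ℕ) (e : ∀ k, M.X k ≃ₗ[A] (Fin (r k) → A)) (k : ℤ)
    (p : PrimeSpectrum A) :
    Module.finrank p.asIdeal.ResidueField (LinearMap.ker ((dbar M k).baseChange p.asIdeal.ResidueField)) =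
      beta M p k := by
  have hM : ∀ j, Module.Finite A (M.X j) := fun j => Module.Finite.equiv (e j).symm
  have := hM k
  have := hM (k + 1)
  let g := (dbar M k).baseChange p.asIdeal.ResidueField
  have h1 := LinearMap.finrank_range_add_finrank_ker g
  have h2 := (LinearMap.range g).finrank_quotient_add_finrank
  rw [← FlatCxLib.finrank_coker_baseChange] at h2
  have h3 : FlatCxLib.fibreRank (M.X (k + 1) ⧸ LinearMap.range (dbar M k)) p =
      FlatCxLib.fibreRank (cok M (k + 1)) p := FlatCxLib.fibreRank_congr (cokDbar M k) p
  have h4 := beta_add M hM k p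
  unfold FlatCxLib.fibreRank at h3 h4
  change Module.finrank p.asIdeal.ResidueField (LinearMap.ker g) = beta M p k
  omega

/-- A model whose fibres have no negative cohomology and at most one-dimensional degree zero
cohomology, with free rank one `H^0`, splits. -/
theorem split_unit_algebra (M : MCx A) (r : ℤ → ℕ) (a : ℤ) (e : ∀ k, M.X k ≃ₗ[A] (Fin (r k) → A))
    (hr : ∀ k, k < a → r k = 0) (hneg : ∀ p k, k < 0 → beta M p k = 0) (hzero : ∀ p, beta M p 0 ≤ 1)
    (c : M.homology 0 ≃ₗ[A] A) :
    (∀ k, k < 0 → Subsingleton (M.homology k)) ∧ Module.Projective A (cok M 1) ∧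
      ∃ (π : cok M 0 →ₗ[A] A), Function.Bijective (π.comp (LinearMap.ker (dbar M 0)).subtype) := by
  have hM : ∀ j, Module.Finite A (M.X j) := fun j => Module.Finite.equiv (e j).symm
  have hfree : ∀ j, Module.Free A (M.X j) := fun j => Module.Free.of_equiv (e j).symm
  have base : ∀ k, k < a → Module.Projective A (cok M k) := fun k hk => by
    haveI : Subsingleton (M.X k) := by
      haveI : IsEmpty (Fin (r k)) := by rw [hr k hk]; infer_instance
      exact (e k).injective.subsingleton
    haveI : Subsingleton (cok M k) :=
      (Submodule.mkQ_surjective (LinearMap.range (M.d (k - 1) k).hom)).subsingleton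
    infer_instance
  have up : ∀ k, k ≤ 0 → Module.Projective A (cok M k) := by
    suffices h : ∀ k, min (a - 1) 0 ≤ k → k ≤ 0 → Module.Projective A (cok M k) by
      intro k hk
      by_cases hka : k < a
      · exact base k hka
      · exact h k (by omega) hk
    intro k hk
    induction k, hk using Int.leInduction with
    | base => exact fun _ => base _ (by omega)
    | succ k hk ih =>
      intro hk0
      haveI := ih (by omega)
      have := hM k
      have := hM (k + 1)
      haveI := hfree (k + 1)
      haveI := projective_coker (dbar M k) fun p => dbar_baseChange_injective M r e k p (hneg p k (by omega))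
      exact Module.Projective.of_equiv (cokDbar M k)
  obtain ⟨c₀⟩ := nonempty_homology_ker M 0
  let u := c₀.symm.trans c
  let v : cok M 0 := (u.symm 1).1
  haveI := up 0 le_rfl
  have := hM 0
  have := hM (0 + 1)
  haveI := hfree (0 + 1)
  haveI := projective_coker_of_unit (dbar M 0) v (u.symm 1).2 (fun x hx => by
    have hx' : x • u.symm 1 = 0 := Subtype.ext hx
    simpa using congrArg u hx') (fun p => (finrank_ker_dbar M r e 0 p).trans_le (hzero p))
  haveI h1 : Module.Projective A (cok M 1) := Module.Projective.of_equiv (cokDbar M 0)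
  refine ⟨fun k hk => ?_, h1, ?_⟩
  · haveI := up (k + 1) (by omega)
    obtain ⟨h1, -, -, h4⟩ := dbar_split M r e k
    haveI := h1
    haveI := subsingleton_of_fibreRank_eq_zero (A := A) (N := LinearMap.ker (dbar M k))
      fun p => by rw [h4, hneg p k hk]
    obtain ⟨c'⟩ := nonempty_homology_ker M k
    exact c'.injective.subsingleton
  · let f := dbar M 0
    obtain ⟨s, hs⟩ := Module.projective_lifting_property (LinearMap.range f).mkQ LinearMap.id
      (Submodule.mkQ_surjective _)
    obtain ⟨e₁, -, -⟩ := ((LinearMap.exact_subtype_mkQ (LinearMap.range f)).splitSurjectiveEquiv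
      Subtype.val_injective) ⟨s, hs⟩
    haveI : Module.Projective A (LinearMap.range f) :=
      Module.Projective.of_split ((e₁.symm.toLinearMap).comp (LinearMap.inl A _ _))
        ((LinearMap.fst A _ _).comp e₁.toLinearMap)
          (LinearMap.ext fun x => congrArg Prod.fst (e₁.apply_symm_apply (x, 0)))
    obtain ⟨t, ht⟩ := Module.projective_lifting_property f.rangeRestrict LinearMap.id
      (LinearMap.surjective_rangeRestrict f)
    let q : cok M 0 →ₗ[A] LinearMap.ker f := (LinearMap.id - t.comp f.rangeRestrict).codRestrict _ fun x => by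
      have := LinearMap.congr_fun ht (f.rangeRestrict x)
      have h2 : f (t (f.rangeRestrict x)) = f x := congr($this.1)
      change f (x - t (f.rangeRestrict x)) = 0
      rw [map_sub, h2, sub_self]
    refine ⟨u.toLinearMap.comp q, ?_⟩
    have hq : ∀ x : LinearMap.ker f, q x.1 = x := fun x => by
      have hx : f.rangeRestrict x.1 = 0 := Subtype.ext x.2
      refine Subtype.ext ?_
      change (x.1 : cok M 0) - t (f.rangeRestrict x.1) = x.1
      rw [hx, map_zero, sub_zero]
    convert u.bijective using 1
    funext x
    exact congrArg u (hq x)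

end PerfBaseLib
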