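import Groth.Agent.PerfBaseLib.SplitUnit
import Mathlib.Algebra.Homology.DerivedCategory.Basic

/-!
# Splitting off degree zero at the level of complexes
-/

set_option autoImplicit false
set_option backward.isDefEq.respectTransparency false
set_option backward.isDefEq.respectTransparency.types false
set_option linter.style.haveILetI false

universe u

open CategoryTheory CategoryTheory.Limits HomologicalComplex

namespace PerfBaseLib

open Groth.Agent.PerfFibreLib

variable {A : Type u} [CommRing A]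

/-- `biprod.lift` is a quasi-isomorphism in a degree where one component is and the other target is acyclic. -/
theorem quasiIsoAt_lift {C : Type*} [Category C] [Abelian C] {K L L' : CochainComplex C ℤ} (a : K ⟶ L) (b : K ⟶ L')
    (i : ℤ) (h : (QuasiIsoAt a i ∧ IsZero (L'.homology i)) ∨ (QuasiIsoAt b i ∧ IsZero (L.homology i))) :
    QuasiIsoAt (biprod.lift a b) i := by
  rw [quasiIsoAt_iff_isIso_homologyMap]
  let G := homologyFunctor C (ComplexShape.up ℤ) i
  haveI : G.Additive := inferInstanceAs ((homologyFunctor C (ComplexShape.up ℤ) i).Additive)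
  haveI := preservesBinaryBiproducts_of_preservesBiproducts G
  have he : homologyMap (biprod.lift a b) i ≫ (G.mapBiprod L L').hom =
      biprod.lift (homologyMap a i) (homologyMap b i) := by
    apply biprod.hom_ext
    · simp [G, ← homologyMap_comp]
      exact (biprod.lift_fst (homologyMap a i) (homologyMap b i)).symm
    · simp [G, ← homologyMap_comp]
      exact (biprod.lift_snd (homologyMap a i) (homologyMap b i)).symm
  suffices IsIso (biprod.lift (homologyMap a i) (homologyMap b i)) by
    rw [← he] at this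
    exact IsIso.of_isIso_comp_right _ (G.mapBiprod L L').hom
  rcases h with ⟨ha, hz⟩ | ⟨hb, hz⟩
  · haveI : IsIso (homologyMap a i) := (quasiIsoAt_iff_isIso_homologyMap _ _).1 ha
    exact ⟨biprod.fst ≫ inv (homologyMap a i), by simp, biprod.hom_ext _ _ (by simp) (hz.eq_of_tgt _ _)⟩
  · haveI : IsIso (homologyMap b i) := (quasiIsoAt_iff_isIso_homologyMap _ _).1 hb
    exact ⟨biprod.snd ≫ inv (homologyMap b i), by simp, biprod.hom_ext _ _ (hz.eq_of_tgt _ _) (by simp)⟩

/-- The truncation of a model in degrees at least one has finite projective terms. -/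
theorem projective_truncGE_X (M : MCx A) (hM : ∀ i, Module.Projective A (M.X i) ∧ Module.Finite A (M.X i))
    [Module.Projective A (cok M 1)] (i : ℤ) :
    Module.Projective A ((CochainComplex.truncGE M 1).X i) ∧ Module.Finite A ((CochainComplex.truncGE M 1).X i) := by
  rcases lt_trichotomy i 1 with hi | hi | hi
  · haveI := ModuleCat.subsingleton_of_isZero (CochainComplex.isZero_of_isStrictlyGE (M.truncGE 1) 1 i hi)
    exact ⟨inferInstance, inferInstance⟩
  · subst hi
    let e : (CochainComplex.truncGE M 1).X 1 ≃ₗ[A] cok M 1 :=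
      ((M.truncGEXIsoOpcycles 1) ≪≫ (M.opcyclesIsCokernel (1 - 1) 1 (by simp)).coconePointUniqueUpToIso
        (colimit.isColimit _) ≪≫ ModuleCat.cokernelIsoRangeQuotient (M.d (1 - 1) 1)).toLinearEquiv
    have := (hM 1).2
    exact ⟨Module.Projective.of_equiv e.symm, Module.Finite.equiv e.symm⟩
  · let e : (CochainComplex.truncGE M 1).X i ≃ₗ[A] M.X i := (M.truncGEXIso 1 i hi).toLinearEquiv
    have := (hM i).1
    have := (hM i).2
    exact ⟨Module.Projective.of_equiv e.symm, Module.Finite.equiv e.symm⟩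

/-- The truncation keeps upper bounds. -/
theorem isZero_truncGE_X (M : MCx A) (b : ℤ) (hb : ∀ i, b < i → IsZero (M.X i)) (i : ℤ)
    (hi : i < 1 ∨ max b 1 < i) : IsZero ((CochainComplex.truncGE M 1).X i) := by
  rcases hi with hi | hi
  · exact CochainComplex.isZero_of_isStrictlyGE (M.truncGE 1) 1 i hi
  · exact (hb i (by omega)).of_iso (M.truncGEXIso 1 i (by omega))

/-- The complex splits off `A[0]`. -/
theorem exists_quasiIso_biprod (M : MCx A) (hneg : ∀ k, k < 0 → Subsingleton (M.homology k))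
    (π : cok M 0 →ₗ[A] A) (hπ : Function.Bijective (π.comp (LinearMap.ker (dbar M 0)).subtype)) :
    ∃ φ : M ⟶ ((single (ModuleCat.{u} A) (ComplexShape.up ℤ) 0).obj (ModuleCat.of A A)) ⊞ CochainComplex.truncGE M 1,
      QuasiIso φ := by
  let φ₀ : M.X 0 ⟶ ModuleCat.of A A :=
    ModuleCat.ofHom (π.comp (LinearMap.range (M.d (0 - 1) 0).hom).mkQ)
  have hd : ∀ i : ℤ, i + 1 = 0 → M.d i 0 ≫ φ₀ = 0 := fun i hi => by
    obtain rfl : i = 0 - 1 := by omega
    ext x
    exact (congrArg π ((Submodule.Quotient.mk_eq_zero _).2 ⟨x, rfl⟩)).trans π.map_zero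
  let ψ : M ⟶ (single (ModuleCat.{u} A) (ComplexShape.up ℤ) 0).obj (ModuleCat.of A A) := mkHomToSingle φ₀ hd
  refine ⟨biprod.lift ψ (M.πTruncGE 1), ⟨fun k => ?_⟩⟩
  have hzS : ∀ k : ℤ, k ≠ 0 → IsZero (((single (ModuleCat.{u} A) (ComplexShape.up ℤ) 0).obj (ModuleCat.of A A)).homology k) :=
    fun k hk => (exactAt_iff_isZero_homology _ _).1
      (ShortComplex.exact_of_isZero_X₂ _ (isZero_single_obj_X (ComplexShape.up ℤ) 0 (ModuleCat.of A A) k hk))
  have hzT : ∀ k : ℤ, k < 1 → IsZero ((CochainComplex.truncGE M 1).homology k) :=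
    fun k hk => (exactAt_iff_isZero_homology _ _).1
      (ShortComplex.exact_of_isZero_X₂ _ (CochainComplex.isZero_of_isStrictlyGE (M.truncGE 1) 1 k hk))
  by_cases h1 : 1 ≤ k
  · exact quasiIsoAt_lift _ _ _ (Or.inr ⟨CochainComplex.quasiIsoAt_πTruncGE M 1 k h1, hzS k (by omega)⟩)
  refine quasiIsoAt_lift _ _ _ (Or.inl ⟨?_, hzT k (by omega)⟩)
  rw [quasiIsoAt_iff_isIso_homologyMap]
  by_cases h0 : k = 0
  swap
  · haveI := hneg k (by omega)
    exact isIso_of_isTerminal ((ModuleCat.isZero_of_subsingleton (M.homology k)).isTerminal) (hzS k h0).isTerminal _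
  subst h0
  let g := homologyMap ψ 0 ≫ (singleObjHomologySelfIso (ComplexShape.up ℤ) 0 (ModuleCat.of A A)).hom
  have hg : M.homologyπ 0 ≫ g = M.iCycles 0 ≫ φ₀ := by
    simp only [g, homologyπ_naturality_assoc, homologyπ_singleObjHomologySelfIso_hom,
      singleObjCyclesSelfIso_hom, cyclesMap_i_assoc]
    simp [ψ]
  suffices IsIso g from IsIso.of_isIso_comp_right (homologyMap ψ 0)
    (singleObjHomologySelfIso (ComplexShape.up ℤ) 0 (ModuleCat.of A A)).hom
  have hgv : ∀ z, g.hom ((M.homologyπ 0).hom z) = π (Submodule.Quotient.mk ((M.iCycles 0).hom z)) :=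
    fun z => congr(($hg).hom z)
  rw [ConcreteCategory.isIso_iff_bijective]
  constructor
  · refine (injective_iff_map_eq_zero g.hom).2 fun h hh => ?_
    obtain ⟨z, rfl⟩ := (ModuleCat.epi_iff_surjective (M.homologyπ 0)).1 inferInstance h
    rw [hgv] at hh
    have hdz : (M.d 0 (0 + 1)).hom ((M.iCycles 0).hom z) = 0 := congr(($(M.iCycles_d 0 (0 + 1))).hom z)
    have hw : (⟨Submodule.Quotient.mk ((M.iCycles 0).hom z), hdz⟩ : LinearMap.ker (dbar M 0)) = 0 :=
      hπ.1 (hh.trans (π.map_zero).symm)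
    obtain ⟨y, hy⟩ := (Submodule.Quotient.mk_eq_zero _).1 congr($hw.1)
    have hz : z = (M.toCycles (0 - 1) 0).hom y := by
      apply (ModuleCat.mono_iff_injective (M.iCycles 0)).1 inferInstance
      exact hy.symm.trans congr(($(M.toCycles_i (0 - 1) 0)).hom y).symm
    rw [hz]
    exact congr(($(M.toCycles_comp_homologyπ (0 - 1) 0)).hom y)
  · intro t
    obtain ⟨⟨x, hx⟩, ht⟩ := hπ.2 t
    obtain ⟨y, rfl⟩ := Submodule.mkQ_surjective (LinearMap.range (M.d (0 - 1) 0).hom) x
    let l : ModuleCat.of A A ⟶ M.X 0 := ModuleCat.ofHom (LinearMap.toSpanSingleton A (M.X 0) y)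
    have hl : l ≫ M.d 0 (0 + 1) = 0 := by
      ext
      exact (congrArg (M.d 0 (0 + 1)).hom (one_smul A y)).trans hx
    refine ⟨(M.homologyπ 0).hom ((M.liftCycles l (0 + 1) (by simp) hl).hom 1), ?_⟩
    refine (hgv _).trans (Eq.trans ?_ ht)
    exact congrArg (fun w => π (Submodule.Quotient.mk w))
      ((congr(($(M.liftCycles_i l (0 + 1) (by simp) hl)).hom 1)).trans (one_smul A y))

end PerfBaseLib
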